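import Groth.Agent.RefCh.K939.FrobBC
import Groth.Agent.RefCh.K939.Abs2
import Groth.Agent.PerfB.FlatPull
import Groth.Agent.QGor.K967.HomUnit
import Groth.Agent.QGor.K66.RefZ
import Groth.Agent.S16496
import Groth.Agent.S1690
import Groth.Agent.KodV.K850.FrobPow
import Groth.Agent.OmegaSh.K583.ExtPowPull
import Groth.Agent.VBCurve.K707.Base
import Groth.Agent.Dcoh.Spread
import Groth.Agent.Krr.H495.Rank
import Groth.Agent.Sga67.LocBasisOps
import Groth.Agent.Flat2F.SecBasis2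

/-!
# Reflexive modules and determinants on the complement of a closed set of codimension two

* `nonempty_ddual_iso`: coherent modules isomorphic on a big open subset have isomorphic reflexive hulls;
* `mk_refPow`: the class of a reflexive power of an invertible module;
* `det_frob`: `det (F^* E)^** = (det E)^[p]`.
-/

set_option autoImplicit false
set_option linter.style.haveILetI false
universe u

open CategoryTheory CategoryTheory.Limits AlgebraicGeometry Opposite TopologicalSpace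

namespace K476.BigOpen

open Groth.Agent
open Groth.Agent.Grpsch.PicGrp (mk mk_congr mk_eq_iff mk_mul_mk mk_tensorPow pull pull_mk)
open K939.FlatDual

variable {X : Scheme.{u}}

/-- The points outside `U` have local rings of dimension at least two. -/
def Big (U : X.Opens) : Prop := ∀ x : X, x ∉ U → (2 : WithBot ℕ∞) ≤ ringKrullDim (X.presheaf.stalk x)

theorem Big.mem {U : X.Opens} (h : Big U) {x : X} (hx : ringKrullDim (X.presheaf.stalk x) ≤ 1) : x ∈ U := by
  by_contra hn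
  have h1 := (h x hn).trans hx
  exact absurd h1 (by decide)

theorem isIso_unit [IsNoetherian X] (hX : Pi1.IsNormalScheme X) {U : X.Opens} (hU : Big U) :
    IsIso ((Scheme.Modules.restrictAdjunction U.ι).unit.app (Coh.structureModule X)) :=
  S16496.result X hX _ K939.Ref1.isCoh_structureModule.1
    (Groth.Agent.Dcoh.Spread.isFlat_of_isFinLocFree Groth.Agent.Dcoh.LocalFree.isFinLocFree_structureModule) U
    fun _ hx => hU.mem hx

/-- Coherent modules which are isomorphic on a big open subset have isomorphic reflexive hulls. -/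
theorem nonempty_ddual_iso [IsNoetherian X] (hX : Pi1.IsNormalScheme X) {U : X.Opens} (hU : Big U)
    {M N : X.Modules} (hM : Coh.IsCoh M) (hN : Coh.IsCoh N)
    (e : (Scheme.Modules.pullback U.ι).obj M ≅ (Scheme.Modules.pullback U.ι).obj N) :
    Nonempty (RefHull.ddual M ≅ RefHull.ddual N) := by
  have h0 := isIso_unit hX hU
  have h1 := K967.HomUnit.isIso_unit_ddual M U h0
  have h2 := K967.HomUnit.isIso_unit_ddual N U h0
  obtain ⟨a⟩ := nonempty_ddual (f := U.ι) hM
  obtain ⟨b⟩ := nonempty_ddual (f := U.ι) hN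
  let c := a ≪≫ K476.HomSh1.ddualIso e ≪≫ b.symm
  let d : (Scheme.Modules.restrictFunctor U.ι).obj (RefHull.ddual M) ≅
      (Scheme.Modules.restrictFunctor U.ι).obj (RefHull.ddual N) :=
    (Scheme.Modules.restrictFunctorIsoPullback U.ι).app _ ≪≫ c ≪≫
      ((Scheme.Modules.restrictFunctorIsoPullback U.ι).app _).symm
  exact ⟨asIso ((Scheme.Modules.restrictAdjunction U.ι).unit.app (RefHull.ddual M)) ≪≫
    (Scheme.Modules.pushforward U.ι).mapIso d ≪≫
    (asIso ((Scheme.Modules.restrictAdjunction U.ι).unit.app (RefHull.ddual N))).symm⟩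

/-- The class of a reflexive tensor product of invertible modules. -/
theorem mk_refTensor {L M : X.Modules} (hL : PicF.IsInvertible L) (hM : PicF.IsInvertible M) :
    ∃ h : PicF.IsInvertible (RefPow.refTensor L M), mk (RefPow.refTensor L M) h = mk L hL * mk M hM := by
  have h1 := Fdesc.LocGen.isInvertible_tensorMod hL hM
  refine ⟨K476.HomSh6.isInvertible_dual (K476.HomSh6.isInvertible_dual h1), ?_⟩
  rw [mk_mul_mk]
  exact K66.RefZ.mk_ddual h1

/-- The class of a reflexive power of an invertible module. -/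
theorem mk_refPow {L : X.Modules} (hL : PicF.IsInvertible L) (m : ℕ) :
    ∃ h : PicF.IsInvertible (RefPow.refPow L m), mk (RefPow.refPow L m) h = mk L hL ^ m := by
  induction m with
  | zero =>
    rw [pow_zero]
    exact ⟨Fdesc.LocGen.isInvertible_structureModule, Grpsch.PicGrp.one_def.symm⟩
  | succ m ih =>
    cases m with
    | zero =>
      rw [zero_add, pow_one]
      exact ⟨hL, rfl⟩
    | succ m =>
      obtain ⟨h, hm⟩ := ih
      obtain ⟨h', hm'⟩ := mk_refTensor h hL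
      exact ⟨h', by rw [pow_succ, ← hm]; exact hm'⟩

theorem nonempty_refPow_iso {L : X.Modules} (hL : PicF.IsInvertible L) (m : ℕ) :
    Nonempty (RefPow.refPow L m ≅ CohB1.tensorPow L m) := by
  obtain ⟨h, hm⟩ := mk_refPow hL m
  exact (mk_eq_iff h (Fdesc.LocGen.isInvertible_tensorPow hL m)).1 (by rw [hm, mk_tensorPow])

/-- Isomorphic modules have isomorphic reflexive powers. -/
theorem nonempty_refPow_congr {F G : X.Modules} (e : F ≅ G) (m : ℕ) :
    Nonempty (RefPow.refPow F m ≅ RefPow.refPow G m) := by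
  induction m with
  | zero => exact ⟨Iso.refl _⟩
  | succ m ih =>
    cases m with
    | zero => exact ⟨e⟩
    | succ m => exact refTensor_congr ih.some e

/-- `F^* L ≅ L^[p]` for `L` invertible. -/
theorem nonempty_frob_refPow (p : ℕ) [Fact p.Prime] [FrobSch.IsCharP X p] {L : X.Modules}
    (hL : PicF.IsInvertible L) :
    Nonempty ((Scheme.Modules.pullback (FrobSch.frob X p)).obj L ≅ RefPow.refPow L p) :=
  ⟨K850.FrobPow.powIso p hL ≪≫ (nonempty_refPow_iso hL p).some.symm⟩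

/-! ### Determinants -/

/-- Finite locally free modules are reflexive. -/
theorem nonempty_ddual_iso_of_finLocFree {Y : Scheme.{u}} [IsIntegral Y] [IsLocallyNoetherian Y]
    {E : Y.Modules} (hE : FlatMod.IsFinLocFree E) : Nonempty (RefHull.ddual E ≅ E) := by
  have hc : Coh.IsCoh E := PerfA.CohSerre.isCoh_of_isFinLocFree hE
  have h1 : RefHull.IsReflexive E := (K476.HomSh4.isReflexive_iff_isReflexiveAt hc).2 fun x => by
    have := K707.Base.free_stalk (K707.Base.isFinLocFreeOfRank_rk hE) x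
    have := Groth.Agent.CycB.StalkLoc.finite_stalk E hc x
    exact (inferInstance : Module.IsReflexive (Y.presheaf.stalk x) (E.presheaf.stalk x))
  have : IsIso (RefHull.bidualMap E) := h1
  exact ⟨(asIso (RefHull.bidualMap E)).symm⟩

theorem free_restrict {Y Z : Scheme.{u}} {n : ℕ} (M : Z.Modules) (f : Y ⟶ Z) [IsOpenImmersion f]
    (e : Nonempty (M ≅ FlatMod.freeMod Z n)) : Nonempty (M.restrict f ≅ FlatMod.freeMod Y n) := by
  obtain ⟨a⟩ := e
  exact ⟨(Scheme.Modules.restrictFunctor f).mapIso a ≪≫ Groth.Agent.Dcoh.LocalD.freeModRestrict f n⟩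

theorem free_restrict_restrict {n : ℕ} (F : X.Modules) (U V : X.Opens)
    (h : Nonempty (F.restrict V.ι ≅ FlatMod.freeMod (↑V) n)) :
    Nonempty ((F.restrict U.ι).restrict (U.ι ⁻¹ᵁ V).ι ≅ FlatMod.freeMod (↑(U.ι ⁻¹ᵁ V)) n) := by
  let k := U.ι ∣_ V
  have hk : k ≫ V.ι = (U.ι ⁻¹ᵁ V).ι ≫ U.ι := morphismRestrict_ι U.ι V
  obtain ⟨a⟩ := free_restrict _ k h
  exact ⟨(((Scheme.Modules.restrictFunctorComp k V.ι).symm ≪≫
      Scheme.Modules.restrictFunctorCongr hk ≪≫
      Scheme.Modules.restrictFunctorComp (U.ι ⁻¹ᵁ V).ι U.ι).app F).symm ≪≫ a⟩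

theorem Big.nonempty' [IsIntegral X] {U : X.Opens} (h : Big U) : (U : Set X).Nonempty :=
  ⟨genericPoint X, h.mem (by
    have h1 : ringKrullDim (X.presheaf.stalk (genericPoint X)) = 0 :=
      ringKrullDim_eq_zero_of_field X.functionField
    rw [h1]
    exact zero_le_one)⟩

theorem Big.nonempty [IsIntegral X] {U : X.Opens} (h : Big U) : Nonempty U := h.nonempty'.to_subtype

theorem rank_of_iso {r : ℕ} {M N : X.Modules} (e : M ≅ N) (h : FlatMod.IsFinLocFreeOfRank r M) :
    FlatMod.IsFinLocFreeOfRank r N := fun x => by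
  obtain ⟨U, hU, ⟨a⟩⟩ := h x
  exact ⟨U, hU, ⟨(Scheme.Modules.restrictFunctor U.ι).mapIso e.symm ≪≫ a⟩⟩

theorem isInvertible_of_iso {M N : X.Modules} (e : M ≅ N) (h : PicF.IsInvertible M) :
    PicF.IsInvertible N := fun x => by
  obtain ⟨U, hU, ⟨a⟩⟩ := h x
  exact ⟨U, hU, ⟨(Scheme.Modules.restrictFunctor U.ι).mapIso e.symm ≪≫ a⟩⟩

theorem rank_pullback {Y : Scheme.{u}} {r : ℕ} (f : Y ⟶ X) {M : X.Modules}
    (hM : FlatMod.IsFinLocFreeOfRank r M) :
    FlatMod.IsFinLocFreeOfRank r ((Scheme.Modules.pullback f).obj M) := by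
  intro x
  obtain ⟨V, hV, ⟨e⟩⟩ := hM (f x)
  exact ⟨f ⁻¹ᵁ V, hV, ⟨(Groth.Agent.PerfB.FlatPull.pullbackRestrict f V).app M ≪≫
    (Scheme.Modules.pullback (f ∣_ V)).mapIso e ≪≫
      Groth.Agent.PerfB.FlatPull.pullbackFreeMod _ r⟩⟩

section Det

variable [IsIntegral X]

theorem rank_freeOpen (E : X.Modules) : FlatMod.IsFinLocFreeOfRank (Groth.Agent.VarietyA.DegRank.rk E)
    (E.restrict (S1690.freeOpen E).ι) := by
  rintro ⟨x, hx⟩
  obtain ⟨V, hV, hxV⟩ := Opens.mem_sSup.mp hx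
  obtain ⟨n, h⟩ := hV
  rw [K707.Base.rk_of_restrict (K707.Base.mem_of_mem hxV) h]
  exact ⟨(S1690.freeOpen E).ι ⁻¹ᵁ V, hxV, free_restrict_restrict E _ V h⟩

/-- A reflexive coherent module is locally free of its generic rank on a big open subset. -/
theorem exists_big [IsLocallyNoetherian X] (hX : Pi1.IsNormalScheme X) {r : ℕ} {E : X.Modules} (hE : Coh.IsCoh E)
    (hEr : RefHull.IsReflexive E)
    (hrk : Module.finrank (X.presheaf.stalk (genericPoint X)) (E.presheaf.stalk (genericPoint X)) = r) :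
    ∃ U : X.Opens, Big U ∧ FlatMod.IsFinLocFreeOfRank r (E.restrict U.ι) :=
  ⟨S1690.freeOpen E, S1690.two_le_of_notMem hX E hE fun x =>
    (K476.HomSh4.isReflexive_iff_isReflexiveAt hE).1 hEr x, hrk ▸ rank_freeOpen E⟩

/-- The generic rank of a module which is locally free of rank `r` on a nonempty open subset. -/
theorem rk_of_open {r : ℕ} {M : X.Modules} {U : X.Opens} (hU : (U : Set X).Nonempty)
    (h : FlatMod.IsFinLocFreeOfRank r (M.restrict U.ι)) : Groth.Agent.VarietyA.DegRank.rk M = r := by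
  obtain ⟨x, hx⟩ := hU
  obtain ⟨V, hV, ⟨a⟩⟩ := h ⟨x, hx⟩
  have e : Nonempty (M.restrict (V.ι ≫ U.ι) ≅ FlatMod.freeMod (↑V) r) :=
    ⟨(Scheme.Modules.restrictFunctorComp V.ι U.ι).app M ≪≫ a⟩
  have e' := (Flat2F.SecBasis.nonempty_restrict_iso_iff M ((V.ι ≫ U.ι) ''ᵁ ⊤)).2
    ((Flat2F.SecBasis.nonempty_restrict_iso_iff' M (V.ι ≫ U.ι)).1 e)
  refine K707.Base.rk_of_restrict (K707.Base.mem_of_mem (x := x) ?_) e'
  exact ⟨⟨⟨x, hx⟩, hV⟩, trivial, rfl⟩

omit [IsIntegral X] in
theorem isInvertible_extPow {m : ℕ} {E L : X.Modules} (hE : FlatMod.IsFinLocFreeOfRank m E)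
    (hL : ExtPow.IsExtPow m E L) : PicF.IsInvertible L := by
  rw [← Ega2.QCohLocal.isFinLocFreeOfRank_one_iff, Krr.H495.Rank.isFinLocFreeOfRank_iff]
  have hE' := Krr.H495.Rank.isFinLocFree_of_rank hE
  refine ⟨Sga67.LocBasis.isFinLocFree_of_isExtPow hE' hL, fun x => ?_⟩
  rw [Krr.H495.Rank.rk_extPow hE' hL, Krr.H495.Rank.rk_of_rank hE, Nat.choose_self]

variable [IsNoetherian X] (p : ℕ) [Fact p.Prime] [FrobSch.IsCharP X p]

/-- `det (F^* E)^** = (det E)^[p]`. -/
theorem det_frob (hX : Pi1.IsNormalScheme X) {r : ℕ} {E E' W W' : X.Modules} (hE : Coh.IsCoh E)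
    (hEr : RefHull.IsReflexive E)
    (hrk : Module.finrank (X.presheaf.stalk (genericPoint X)) (E.presheaf.stalk (genericPoint X)) = r)
    (hW : ExtPow.IsExtPow r E W)
    (hE' : Nonempty (E' ≅ RefHull.ddual ((Scheme.Modules.pullback (FrobSch.frob X p)).obj E)))
    (hW' : ExtPow.IsExtPow r E' W') :
    Nonempty (RefHull.ddual W' ≅ RefPow.refPow (RefHull.ddual W) p) := by
  obtain ⟨U, hU, hEU⟩ := exists_big hX hE hEr hrk
  obtain ⟨a⟩ := hE'
  have hcp : FrobSch.IsCharP (U : Scheme.{u}) p := FrobSch.IsCharP.of_hom U.ι p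
  have : Nonempty U := hU.nonempty
  have : IsIntegral (U : Scheme.{u}) := inferInstance
  have : IsLocallyNoetherian (U : Scheme.{u}) := inferInstance
  let j := U.ι
  let F := Scheme.Modules.pullback (FrobSch.frob X p)
  let FU := Scheme.Modules.pullback (FrobSch.frob (U : Scheme.{u}) p)
  let J := Scheme.Modules.pullback U.ι
  have hE1 : FlatMod.IsFinLocFreeOfRank r (J.obj E) :=
    rank_of_iso ((Scheme.Modules.restrictFunctorIsoPullback U.ι).app E) hEU
  have hWc : Coh.IsCoh W := K939.ExtIdx.isCoh_of_isExtPow hE hW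
  have hFE : Coh.IsCoh (F.obj E) := isCoh_pullback _ hE
  have hE'c : Coh.IsCoh E' :=
    (Groth.Agent.CycB.CohProp.coh X).prop_of_iso a.symm (K476.HomSh4.isCoh_ddual hFE)
  have hW'c : Coh.IsCoh W' := K939.ExtIdx.isCoh_of_isExtPow hE'c hW'
  have hWU : ExtPow.IsExtPow r (J.obj E) (J.obj W) := K583.ExtPowPull.isExtPow_pullback U.ι hE.1 hW
  have hWi : PicF.IsInvertible (J.obj W) := isInvertible_extPow hE1 hWU
  -- `E'` on `U`
  obtain ⟨b⟩ := nonempty_ddual (f := U.ι) hFE
  obtain ⟨c⟩ := K939.FrobBC.nonempty_pullback_frob U.ι p E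
  obtain ⟨d⟩ := nonempty_ddual_iso_of_finLocFree (E := FU.obj (J.obj E))
    (Groth.Agent.PerfB.FlatPull.isFinLocFree_pullback _ (K707.Base.isFinLocFree_of_rank hE1))
  let e1 : J.obj E' ≅ FU.obj (J.obj E) := J.mapIso a ≪≫ b ≪≫ K476.HomSh1.ddualIso c ≪≫ d
  -- determinants on `U`
  have hW'U : ExtPow.IsExtPow r (J.obj E') (J.obj W') := K583.ExtPowPull.isExtPow_pullback U.ι hE'c.1 hW'
  have hFW : ExtPow.IsExtPow r (FU.obj (J.obj E)) (FU.obj (J.obj W)) :=
    K583.ExtPowPull.isExtPow_pullback _ (isCoh_pullback U.ι hE).1 hWU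
  obtain ⟨e2⟩ := Groth.Agent.Sga67.TensorOps.nonempty_iso_of_isExtPow e1 hW'U hFW
  obtain ⟨e3⟩ := nonempty_frob_refPow p hWi
  obtain ⟨e4⟩ := nonempty_refPow (f := U.ι) (K476.HomSh4.isCoh_ddual hWc) p
  obtain ⟨e5⟩ := nonempty_ddual (f := U.ι) hWc
  obtain ⟨e6⟩ := K66.RefZ.nonempty_ddual_iso hWi
  obtain ⟨e7⟩ := nonempty_refPow_congr (e5 ≪≫ e6) p
  let e8 : J.obj W' ≅ J.obj (RefPow.refPow (RefHull.ddual W) p) := e2 ≪≫ e3 ≪≫ e7.symm ≪≫ e4.symm
  have hDc : Coh.IsCoh (RefPow.refPow (RefHull.ddual W) p) :=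
    K939.Abs.isCoh_refPow (K476.HomSh4.isCoh_ddual hWc) p
  obtain ⟨e9⟩ := nonempty_ddual_iso hX hU hW'c hDc e8
  have hg : RefHull.GenInvertible W := ⟨U, U.2.dense hU.nonempty', isInvertible_of_iso
    ((Scheme.Modules.restrictFunctorIsoPullback U.ι).app W).symm hWi⟩
  have h1 : IsIso (RefHull.bidualMap (RefPow.refPow (RefHull.ddual W) p)) :=
    (K476.Ref1.isRef1_refPow (K476.Ref1.isRef1_ddual hWc hg) p).2.1
  exact ⟨e9 ≪≫ (asIso (RefHull.bidualMap (RefPow.refPow (RefHull.ddual W) p))).symm⟩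

/-- The generic rank of `(F^* E)^**`. -/
theorem rk_frob (hX : Pi1.IsNormalScheme X) {r : ℕ} {E E' : X.Modules} (hE : Coh.IsCoh E)
    (hEr : RefHull.IsReflexive E)
    (hrk : Module.finrank (X.presheaf.stalk (genericPoint X)) (E.presheaf.stalk (genericPoint X)) = r)
    (hE' : Nonempty (E' ≅ RefHull.ddual ((Scheme.Modules.pullback (FrobSch.frob X p)).obj E))) :
    Module.finrank (X.presheaf.stalk (genericPoint X)) (E'.presheaf.stalk (genericPoint X)) = r := by
  obtain ⟨U, hU, hEU⟩ := exists_big hX hE hEr hrk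
  obtain ⟨a⟩ := hE'
  have hcp : FrobSch.IsCharP (U : Scheme.{u}) p := FrobSch.IsCharP.of_hom U.ι p
  have : Nonempty U := hU.nonempty
  have : IsIntegral (U : Scheme.{u}) := inferInstance
  have : IsLocallyNoetherian (U : Scheme.{u}) := inferInstance
  let F := Scheme.Modules.pullback (FrobSch.frob X p)
  let FU := Scheme.Modules.pullback (FrobSch.frob (U : Scheme.{u}) p)
  let J := Scheme.Modules.pullback U.ι
  have hE1 : FlatMod.IsFinLocFreeOfRank r (J.obj E) :=
    rank_of_iso ((Scheme.Modules.restrictFunctorIsoPullback U.ι).app E) hEU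
  have hFE : Coh.IsCoh (F.obj E) := isCoh_pullback _ hE
  obtain ⟨b⟩ := nonempty_ddual (f := U.ι) hFE
  obtain ⟨c⟩ := K939.FrobBC.nonempty_pullback_frob U.ι p E
  obtain ⟨d⟩ := nonempty_ddual_iso_of_finLocFree (E := FU.obj (J.obj E))
    (Groth.Agent.PerfB.FlatPull.isFinLocFree_pullback _ (K707.Base.isFinLocFree_of_rank hE1))
  let e1 : J.obj E' ≅ FU.obj (J.obj E) := J.mapIso a ≪≫ b ≪≫ K476.HomSh1.ddualIso c ≪≫ d
  have h1 : FlatMod.IsFinLocFreeOfRank r (FU.obj (J.obj E)) :=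
    rank_pullback _ hE1
  exact rk_of_open hU.nonempty'
    (rank_of_iso (e1.symm ≪≫ ((Scheme.Modules.restrictFunctorIsoPullback U.ι).app E').symm) h1)

omit [IsIntegral X] in
theorem isCoh_frob {E E' : X.Modules} (hE : Coh.IsCoh E)
    (hE' : Nonempty (E' ≅ RefHull.ddual ((Scheme.Modules.pullback (FrobSch.frob X p)).obj E))) : Coh.IsCoh E' := by
  obtain ⟨a⟩ := hE'
  exact (Groth.Agent.CycB.CohProp.coh X).prop_of_iso a.symm (K476.HomSh4.isCoh_ddual (isCoh_pullback _ hE))

end Det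

end K476.BigOpen
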