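import Groth.Agent.RefCh.K476.HypCut
import Groth.Agent.RefCh.K476.BigOpen
import Groth.Agent.Coherent.K850.RegSec
import Groth.Agent.Divis.CartierStalk
import Groth.Agent.Krr.H482.RegSpread
import Groth.Agent.Krr.H487.ExtPull
import Groth.Agent.Fga.ZeroClass
import Groth.Agent.AbVar.K513.Theta1
import Groth.Agent.Ega2.SmoothBdry
import Groth.Agent.S7772
import Groth.Agent.Variety.K426.DimKit
import Groth.Agent.Dual.H366.ExtQCoh
import Groth.Agent.Ega4A.RegDer

/-!
# Transversal zero schemes of sections in the smooth locus: smoothness and adjunction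
-/

set_option autoImplicit false
universe u

open CategoryTheory CategoryTheory.Limits AlgebraicGeometry Opposite TopologicalSpace

namespace K476.AdjCut

open Groth.Agent Groth.Agent.Divis.CartierBasic Groth.Agent.VarietyB IsLocalRing

variable {k : Type u} [Field k] [IsAlgClosed k] {X Z : Scheme.{u}} [X.Over (Spec (CommRingCat.of k))]
  [Z.Over (Spec (CommRingCat.of k))] [LocallyOfFiniteType (X ↘ Spec (CommRingCat.of k))]

/-- Transversality of a section at the points of `U`. -/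
structure Transv {N : X.Modules} (s : Coh.structureModule X ⟶ N) (U : X.Opens) : Prop where
  gen : ∀ x ∈ U, ∃ y, y ⤳ x ∧ y ∈ CohB1.genLocus N s
  eq : ∀ x ∈ U, x ∉ CohB1.genLocus N s → ∃ t ∈ maximalIdeal (X.presheaf.stalk x),
    t ∉ maximalIdeal (X.presheaf.stalk x) ^ 2 ∧ stalkIdeal (PicF2.zeroScheme N s) x = Ideal.span {t}

omit [Z.Over (Spec (CommRingCat.of k))] in
theorem isRegular_of_mem {U : X.Opens} (hU : Smooth (U.ι ≫ (X ↘ Spec (CommRingCat.of k)))) {x : X} (hx : x ∈ U) :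
    IsRegularLocalRing (X.presheaf.stalk x) := by
  have hlfp : LocallyOfFinitePresentation (X ↘ Spec (CommRingCat.of k)) := inferInstance
  rw [← VarietyA.SmoothReg.mem_smoothLocus_iff_of_perfectField (X ↘ Spec (CommRingCat.of k)) x]
  have h1 := Scheme.Hom.preimage_smoothLocus_eq U.ι (X ↘ Spec (CommRingCat.of k))
  rw [(U.ι ≫ (X ↘ Spec (CommRingCat.of k))).smoothLocus_eq_top] at h1
  have h2 : (⟨x, hx⟩ : U) ∈ U.ι ⁻¹ᵁ (X ↘ Spec (CommRingCat.of k)).smoothLocus := h1 ▸ trivial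
  exact h2

variable (i : Z ⟶ X) [IsClosedImmersion i] (hi : i ≫ (X ↘ Spec (CommRingCat.of k)) = Z ↘ Spec (CommRingCat.of k))
  {N : X.Modules} (hN : PicF.IsInvertible N) {s : Coh.structureModule X ⟶ N} (hker : i.ker = PicF2.zeroScheme N s)
  {U : X.Opens} (hs : Transv s U)

include hker hs hN in
omit [Z.Over (Spec (CommRingCat.of k))] in
theorem stalk_reg (hU : Smooth (U.ι ≫ (X ↘ Spec (CommRingCat.of k)))) (z : Z) (hz : i z ∈ U) :
    IsRegularLocalRing (Z.presheaf.stalk z) ∧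
      ringKrullDim (Z.presheaf.stalk z) + 1 = ringKrullDim (X.presheaf.stalk (i z)) := by
  have hreg := isRegular_of_mem hU hz
  have hd : IsDomain (X.presheaf.stalk (i z)) := Groth.Agent.CalgA.RegBasic.isDomain _
  have hz' : i z ∉ CohB1.genLocus N s := by
    rw [← Groth.Agent.Pi1C.ZeroScheme.mem_support_iff s hN, ← hker]
    exact i.range_subset_ker_support (Set.mem_range_self z)
  obtain ⟨t, ht, ht2, hst⟩ := hs.eq _ hz hz'
  have h1 := Groth.Agent.Ega4A.RegDer.isRegularLocalRing_quotient_of_notMem_sq ht ht2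
  have hk : RingHom.ker (i.stalkMap z).hom = Ideal.span {t} := by
    rw [Groth.Agent.Divis.CartierStalk.ker_stalkMap, hker, hst]
  let e : (X.presheaf.stalk (i z) ⧸ Ideal.span {t}) ≃+* Z.presheaf.stalk z :=
    (Ideal.quotEquivOfEq hk.symm).trans (RingHom.quotientKerEquivOfSurjective (i.stalkMap_surjective z))
  refine ⟨IsRegularLocalRing.of_ringEquiv e, ?_⟩
  rw [← ringKrullDim_eq_of_ringEquiv e]
  have ht0 : t ≠ 0 := by
    rintro rfl
    exact ht2 (zero_mem _)
  exact ringKrullDim_quotient_span_singleton_succ_eq_ringKrullDim_of_mem_nonZeroDivisors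
    (mem_nonZeroDivisors_of_ne_zero ht0) ht

/-! ### The relative dimension -/

include hi in
omit [IsAlgClosed k] in
theorem trd_eq (z : Z) : DimSch.trd k Z z = DimSch.trd k X (i z) := by
  have hZ : LocallyOfFiniteType (Z ↘ Spec (CommRingCat.of k)) := by rw [← hi]; infer_instance
  have h1 := K426.DimKit.dim_closure k Z z
  have h2 := K426.DimKit.dim_closure k X (i z)
  have h3 : i '' closure {z} = closure {i z} := by
    rw [← i.isClosedEmbedding.closure_image_eq, Set.image_singleton]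
  let e : (closure {z} : Set Z) ≃ₜ (closure {i z} : Set X) :=
    (i.isEmbedding.homeomorphImage (closure {z})).trans (Homeomorph.setCongr h3)
  rw [← IsHomeomorph.topologicalKrullDim_eq e e.isHomeomorph, h1] at h2
  exact_mod_cast h2

include hker hs hN hi in
theorem smooth_cut (n : ℕ) (hU : SmoothOfRelativeDimension (n + 1) (U.ι ≫ (X ↘ Spec (CommRingCat.of k)))) :
    SmoothOfRelativeDimension n ((i ⁻¹ᵁ U).ι ≫ (Z ↘ Spec (CommRingCat.of k))) := by
  have hZ : LocallyOfFiniteType (Z ↘ Spec (CommRingCat.of k)) := by rw [← hi]; infer_instance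
  have hUs : Smooth (U.ι ≫ (X ↘ Spec (CommRingCat.of k))) := SmoothOfRelativeDimension.smooth (n + 1) _
  have hsm : Smooth ((i ⁻¹ᵁ U).ι ≫ (Z ↘ Spec (CommRingCat.of k))) := by
    refine Ega2.SmoothBdry.smooth_of_regular _ fun z => ?_
    have h1 : IsRegularLocalRing (Z.presheaf.stalk ((i ⁻¹ᵁ U).ι z)) := (stalk_reg i hN hker hs hUs z.1 z.2).1
    exact IsRegularLocalRing.of_ringEquiv
      (asIso ((i ⁻¹ᵁ U).ι.stalkMap z)).commRingCatIsoToRingEquiv
  refine Ega2.SmoothBdry.smoothOfRelativeDimension_of_localDim _ n fun z => ?_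
  rw [DimTop.localDim_eq_of_isOpenEmbedding (i ⁻¹ᵁ U).ι.isOpenEmbedding z]
  have h1 : FlatMor.localDim X (i z.1) = ((n + 1 : ℕ) : WithBot ℕ∞) := by
    have h2 := UnramA.SmoothFibreDim.localDim_eq (n + 1) (U.ι ≫ (X ↘ Spec (CommRingCat.of k))) ⟨i z.1, z.2⟩
    rw [DimTop.localDim_eq_of_isOpenEmbedding U.ι.isOpenEmbedding] at h2
    exact h2
  have h2 := (stalk_reg i hN hker hs hUs z.1 z.2).2
  have h3 : FlatMor.localDim Z z.1 = ringKrullDim (Z.presheaf.stalk z.1) + DimSch.trd k Z z.1 :=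
    DimSch.localDim_eq k z.1
  change FlatMor.localDim Z z.1 = n
  rw [h3, trd_eq i hi]
  rw [DimSch.localDim_eq k (i z.1), ← h2] at h1
  have hne : Nontrivial (Z.presheaf.stalk z.1) := inferInstance
  obtain ⟨a, ha⟩ : ∃ a : ℕ, ringKrullDim (Z.presheaf.stalk z.1) = a := by
    have hr := (stalk_reg i hN hker hs hUs z.1 z.2).1
    have hfin := finiteRingKrullDim_iff_ne_bot_and_top.1
      (inferInstance : FiniteRingKrullDim (Z.presheaf.stalk z.1))
    generalize ringKrullDim (Z.presheaf.stalk z.1) = d at hfin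
    cases d with
    | bot => exact absurd rfl hfin.1
    | coe d =>
      cases d with
      | top => exact absurd rfl hfin.2
      | coe d => exact ⟨d, rfl⟩
  rw [ha] at h1 ⊢
  have h4 : a + 1 + DimSch.trd k X (i z.1) = n + 1 := by exact_mod_cast h1
  have h5 : a + DimSch.trd k X (i z.1) = n := by omega
  exact_mod_cast h5

/-! ### Adjunction -/

include hN hs in
omit [Z.Over (Spec (CommRingCat.of k))] in
theorem isEffCartier (hU : Smooth (U.ι ≫ (X ↘ Spec (CommRingCat.of k)))) :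
    BlowUp.IsEffCartierIdeal ((PicF2.zeroScheme N s).comap U.ι) := by
  have : IsLocallyNoetherian X := LocallyOfFiniteType.isLocallyNoetherian (X ↘ Spec (CommRingCat.of k))
  refine isEffCartierIdeal_of_stalkIdeal _ fun x hx => ?_
  rw [Scheme.IdealSheafData.support_comap] at hx
  have hxs : U.ι x ∉ CohB1.genLocus N s := by
    rw [← Groth.Agent.Pi1C.ZeroScheme.mem_support_iff s hN]
    exact hx
  obtain ⟨t, ht, ht2, hst⟩ := hs.eq (U.ι x) x.2 hxs
  have hreg : IsRegularLocalRing (X.presheaf.stalk (U.ι x)) := isRegular_of_mem hU x.2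
  have hd : IsDomain (X.presheaf.stalk (U.ι x)) := Groth.Agent.CalgA.RegBasic.isDomain _
  have hbij : Function.Bijective (U.ι.stalkMap x).hom := ConcreteCategory.bijective_of_isIso (U.ι.stalkMap x)
  refine ⟨(U.ι.stalkMap x).hom t, ?_, ?_⟩
  · have ht0 : t ≠ 0 := by
      rintro rfl
      exact ht2 (zero_mem _)
    let e : X.presheaf.stalk (U.ι x) ≃+* (U : Scheme.{u}).presheaf.stalk x :=
      RingEquiv.ofBijective (U.ι.stalkMap x).hom hbij
    have hd' : IsDomain ((U : Scheme.{u}).presheaf.stalk x) := e.symm.toMulEquiv.isDomain _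
    refine mem_nonZeroDivisors_of_ne_zero fun h0 => ht0 (hbij.1 ?_)
    rw [h0, map_zero]
  · rw [Groth.Agent.Divis.CartierStalk.stalkIdeal_comap, hst, Ideal.map_span, Set.image_singleton]

open Groth.Agent.Fga.PicMon (mc mc_eq mc_eq_iff mc_tensor mc_one)

omit [IsAlgClosed k] [X.Over (Spec (CommRingCat.of k))] [Z.Over (Spec (CommRingCat.of k))]
  [LocallyOfFiniteType (X ↘ Spec (CommRingCat.of k))] in
/-- Pullback on classes of modules. -/
theorem mc_pull {A B : Scheme.{u}} (f : A ⟶ B) (M P : B.Modules) :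
    mc ((Scheme.Modules.pullback f).obj (CohB1.tensorMod M P)) =
      mc ((Scheme.Modules.pullback f).obj M) * mc ((Scheme.Modules.pullback f).obj P) := by
  rw [← mc_tensor]
  exact mc_eq (K939.FlatDual.tensorIso f M P)

include hker hs hN hi in
/-- **Adjunction** for a transversal zero scheme. -/
theorem adjunction (n : ℕ) (hU : SmoothOfRelativeDimension (n + 1) (U.ι ≫ (X ↘ Spec (CommRingCat.of k))))
    [QuasiSeparated (X ↘ Spec (CommRingCat.of k))] (ω : X.Modules)
    (hω : ExtPow.IsExtPow (n + 1) (Omega.sheaf (U.ι ≫ (X ↘ Spec (CommRingCat.of k)))) (ω.restrict U.ι)) :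
    ExtPow.IsExtPow n (Omega.sheaf ((i ⁻¹ᵁ U).ι ≫ (Z ↘ Spec (CommRingCat.of k))))
      ((CohB1.tensorMod ((Scheme.Modules.pullback i).obj N) ((Scheme.Modules.pullback i).obj ω)).restrict
        (i ⁻¹ᵁ U).ι) := by
  have hUs : Smooth (U.ι ≫ (X ↘ Spec (CommRingCat.of k))) := SmoothOfRelativeDimension.smooth (n + 1) _
  have hsm := smooth_cut i hi hN hker hs n hU
  let iU := i ∣_ U
  have hiU : iU ≫ U.ι = (i ⁻¹ᵁ U).ι ≫ i := morphismRestrict_ι i U
  have hcomm : iU ≫ U.ι ≫ (X ↘ Spec (CommRingCat.of k)) = (i ⁻¹ᵁ U).ι ≫ (Z ↘ Spec (CommRingCat.of k)) := by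
    rw [← Category.assoc, hiU, Category.assoc, hi]
  have hq1 : QuasiSeparated (U.ι ≫ (X ↘ Spec (CommRingCat.of k))) := inferInstance
  have hq2 : QuasiSeparated ((i ⁻¹ᵁ U).ι ≫ (Z ↘ Spec (CommRingCat.of k))) := by
    rw [← hcomm]; infer_instance
  -- the ideal of the section on `U`
  let NU := (Scheme.Modules.pullback U.ι).obj N
  let sU := Groth.Agent.Fdesc.LocGen.pullHom U.ι s
  have hkU : iU.ker = PicF2.zeroScheme NU sU := by
    have h1 : iU.ker = i.ker.comap U.ι := Groth.Agent.Krr.H482.RegSpread.ker_restrict i U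
    rw [h1, hker, K850.RegSec.comap_zeroScheme U.ι hN s]
  have hNU : PicF.IsInvertible NU := Groth.Agent.Fdesc.LocGen.isInvertible_pullback U.ι hN
  have hE : BlowUp.IsEffCartierIdeal (PicF2.zeroScheme NU sU) := by
    rw [← K850.RegSec.comap_zeroScheme U.ι hN s]
    exact isEffCartier hN hs hUs
  obtain ⟨e1⟩ := Groth.Agent.Fga.ZeroClass.nonempty_iso hNU (Groth.Agent.Fdesc.LocGen.sec sU ⊤)
    (K513.Theta1.isZeroIdeal_zeroScheme hNU sU) hE
  -- the exterior powers
  obtain ⟨ωY, hωY⟩ := Groth.Agent.Dual.H366.ExtQCoh.exists_isExtPow n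
    (Groth.Agent.Dual.H366.ConSec.isQCoh_omega ((i ⁻¹ᵁ U).ι ≫ (Z ↘ Spec (CommRingCat.of k))))
  have hL : ExtPow.IsExtPow (n + 1 - n) (Omega.conormal iU) (Omega.conormal iU) := by
    rw [Nat.add_sub_cancel_left]
    exact Groth.Agent.Sga67.TensorOps.isExtPow_one _
  obtain ⟨e2⟩ := (S7772.result (Spec (CommRingCat.of k)) U (i ⁻¹ᵁ U) (U.ι ≫ (X ↘ Spec (CommRingCat.of k)))
    ((i ⁻¹ᵁ U).ι ≫ (Z ↘ Spec (CommRingCat.of k))) (n + 1) n (Nat.le_succ n) iU hcomm (ω.restrict U.ι) hω ωY hωY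
    (Omega.conormal iU) hL).2
  have e3 : Omega.conormal iU = (Scheme.Modules.pullback iU).obj (ClSub.idealMod (PicF2.zeroScheme NU sU)) := by
    rw [Omega.conormal, hkU]
  refine Groth.Agent.Krr.H487.ExtPull.isExtPow_of_iso hωY ?_
  refine Nonempty.some ((mc_eq_iff _ _).1 ?_)
  have h4 : mc ((Scheme.Modules.pullback iU).obj NU) * mc (Omega.conormal iU) = 1 := by
    rw [e3, ← mc_pull, ← mc_one]
    exact mc_eq ((Scheme.Modules.pullback iU).mapIso e1 ≪≫ K939.FlatDual.unitIso iU)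
  have h5 : mc ((Scheme.Modules.pullback iU).obj (ω.restrict U.ι)) = mc ωY * mc (Omega.conormal iU) := mc_eq e2
  have h6 : ∀ A : X.Modules, mc (((Scheme.Modules.pullback i).obj A).restrict (i ⁻¹ᵁ U).ι) =
      mc ((Scheme.Modules.pullback iU).obj ((Scheme.Modules.pullback U.ι).obj A)) := by
    intro A
    exact mc_eq ((Scheme.Modules.restrictFunctorIsoPullback (i ⁻¹ᵁ U).ι).app _ ≪≫
      (Scheme.Modules.pullbackComp (i ⁻¹ᵁ U).ι i).app A ≪≫ (Scheme.Modules.pullbackCongr hiU.symm).app A ≪≫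
      ((Scheme.Modules.pullbackComp iU U.ι).app A).symm)
  have h7 : mc ((CohB1.tensorMod ((Scheme.Modules.pullback i).obj N) ((Scheme.Modules.pullback i).obj ω)).restrict
      (i ⁻¹ᵁ U).ι) = mc (((Scheme.Modules.pullback i).obj (CohB1.tensorMod N ω)).restrict (i ⁻¹ᵁ U).ι) :=
    mc_eq ((Scheme.Modules.restrictFunctor (i ⁻¹ᵁ U).ι).mapIso (K939.FlatDual.tensorIso i N ω).symm)
  rw [h7, h6]
  have h8 : mc ((Scheme.Modules.pullback iU).obj ((Scheme.Modules.pullback U.ι).obj (CohB1.tensorMod N ω))) =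
      mc ((Scheme.Modules.pullback iU).obj (CohB1.tensorMod NU (ω.restrict U.ι))) :=
    mc_eq ((Scheme.Modules.pullback iU).mapIso (K939.FlatDual.tensorIso U.ι N ω ≪≫
      Groth.Agent.Ega2.Tens.mapTIso (Iso.refl _) ((Scheme.Modules.restrictFunctorIsoPullback U.ι).app ω).symm))
  rw [h8, mc_pull, h5]
  calc mc ωY = (mc ((Scheme.Modules.pullback iU).obj NU) * mc (Omega.conormal iU)) * mc ωY := by rw [h4, one_mul]
    _ = _ := by rw [mul_assoc, mul_comm (mc (Omega.conormal iU)) (mc ωY)]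

end K476.AdjCut
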