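import Groth.Agent.Variety.K418.HypInt
import Groth.Agent.Coherent.K850.RegSec
import Groth.Agent.Divis.CartierStalk

/-!
# General hyperplane sections: transversality at the regular points and avoidance of components
-/

set_option autoImplicit false
universe u

open CategoryTheory CategoryTheory.Limits AlgebraicGeometry Topology CohB1
open Groth.Agent Groth.Agent.VarietyB
open K426 K426.ProjCut

namespace K476.HypSect

variable {k : Type u} [Field k] {n : ℕ} {X : Scheme.{u}} (ι : X ⟶ ProjSpace n k) [IsClosedImmersion ι]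

/-- The section of `ι^* O(1)` given by a linear form. -/
noncomputable def hs (h : CohB1.polyGrading n k 1) :
    Coh.structureModule X ⟶ (Scheme.Modules.pullback ι).obj (Twist.twistProjSpace n k 1) :=
  Groth.Agent.Fdesc.LocGen.pullHom ι (K658.SecSmooth.secOf h)

theorem isInvertible_twist (n : ℕ) : PicF.IsInvertible (Twist.twistProjSpace n k 1) :=
  K658.SecSmooth.isInvertible k n

omit [IsClosedImmersion ι] in
theorem isInvertible_pull : PicF.IsInvertible ((Scheme.Modules.pullback ι).obj (Twist.twistProjSpace n k 1)) :=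
  Groth.Agent.Fdesc.LocGen.isInvertible_pullback ι (isInvertible_twist n)

omit [IsClosedImmersion ι] in
theorem zeroScheme_hs (h : CohB1.polyGrading n k 1) :
    PicF2.zeroScheme _ (hs ι h) =
      (PicF2.zeroScheme (Twist.twist (CohB1.polyGrading n k) 1) (K658.SecSmooth.secOf h)).comap ι :=
  (K850.RegSec.comap_zeroScheme ι (isInvertible_twist n) _).symm

omit [IsClosedImmersion ι] in
theorem notMem_genLocus_iff (h : CohB1.polyGrading n k 1) (x : X) :
    x ∉ CohB1.genLocus _ (hs ι h) ↔ (h : MvPolynomial (Fin (n + 1)) k) ∈ idl (ι x) := by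
  rw [← Groth.Agent.Pi1C.ZeroScheme.mem_support_iff (hs ι h) (isInvertible_pull ι), zeroScheme_hs,
    Scheme.IdealSheafData.support_comap]
  exact K658.SecSmooth.mem_support_iff h (ι x)

theorem ideal_comap_secOf {X : Scheme.{u}} (ι : X ⟶ Proj (CohB1.polyGrading n k)) (h : CohB1.polyGrading n k 1)
    (j : Fin (n + 1)) (hW : IsAffineOpen (K658.ProjSec.W ι j)) :
    ((PicF2.zeroScheme (Twist.twist (CohB1.polyGrading n k) 1) (K658.SecSmooth.secOf h)).comap ι).ideal
      ⟨K658.ProjSec.W ι j, hW⟩ = Ideal.span {K658.ProjSec.θ ι j h} := by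
  rw [Groth.Agent.Divis.IdealComap.ideal_comap _ ι (K658.SecSmooth.Daff k n j)
      ⟨K658.ProjSec.W ι j, hW⟩ le_rfl,
    K658.SecSmooth.ideal_zeroScheme, K658.ProjSec.θ_lin, Scheme.Hom.app_eq_appLE]
  refine (Ideal.map_span _ _).trans ?_
  exact congrArg Ideal.span (Set.image_singleton)

omit [IsClosedImmersion ι] in
theorem ideal_zeroScheme_hs (h : CohB1.polyGrading n k 1) (j : Fin (n + 1))
    (hW : IsAffineOpen (K658.ProjSec.W ι j)) :
    (PicF2.zeroScheme _ (hs ι h)).ideal ⟨K658.ProjSec.W ι j, hW⟩ =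
      Ideal.span {K658.ProjSec.θ ι j h} := by
  rw [zeroScheme_hs]
  exact ideal_comap_secOf ι h j hW

/-- The equation of the section at a point. -/
theorem stalk_eq (h : CohB1.polyGrading n k 1) (hreg : ∀ j, K418.HypSmooth.TransvReg (K658.ProjSec.θ ι j h)) (x : X)
    (hx : IsRegularLocalRing (X.presheaf.stalk x)) (hxs : x ∉ CohB1.genLocus _ (hs ι h)) :
    ∃ t : X.presheaf.stalk x, t ∈ IsLocalRing.maximalIdeal (X.presheaf.stalk x) ∧
      t ∉ IsLocalRing.maximalIdeal (X.presheaf.stalk x) ^ 2 ∧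
      Groth.Agent.Divis.CartierBasic.stalkIdeal (PicF2.zeroScheme _ (hs ι h)) x = Ideal.span {t} := by
  have hι : @IsClosedImmersion X (Proj (CohB1.polyGrading n k)) ι := ‹IsClosedImmersion ι›
  obtain ⟨j, hj⟩ := K658.ProjSec.exists_mem_W ι x
  have hU := K658.ProjSec.isAffineOpen_W ι j
  have hmem := (notMem_genLocus_iff ι h x).1 hxs
  let A := Γ(X, K658.ProjSec.W ι j)
  let p := (hU.primeIdealOf ⟨x, hj⟩).asIdeal
  let _ : Algebra A (X.presheaf.stalk x) := TopCat.Presheaf.algebra_section_stalk X.presheaf ⟨x, hj⟩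
  have hloc : IsLocalization.AtPrime (X.presheaf.stalk x) p := hU.isLocalization_stalk ⟨x, hj⟩
  let t : X.presheaf.stalk x := X.presheaf.germ (K658.ProjSec.W ι j) x hj (K658.ProjSec.θ ι j h)
  have ht : algebraMap A (X.presheaf.stalk x) (K658.ProjSec.θ ι j h) = t := rfl
  have htm : t ∈ IsLocalRing.maximalIdeal (X.presheaf.stalk x) := by
    rw [IsLocalRing.mem_maximalIdeal, mem_nonunits_iff, K658.ProjSec.isUnit_germ_iff, not_not]
    exact hmem
  have hp : K658.ProjSec.θ ι j h ∈ p := by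
    rw [← IsLocalization.AtPrime.to_map_mem_maximal_iff (X.presheaf.stalk x) p, ht]
    exact htm
  have hreg' := hreg j p hp ((K418.HypSec.isRegularLocalRing_iff hU x hj).2 hx)
  refine ⟨t, htm, fun h2 => hreg' ?_, ?_⟩
  · let e := (IsLocalization.algEquiv p.primeCompl (X.presheaf.stalk x) (Localization.AtPrime p))
    have h3 : e t ∈ (IsLocalRing.maximalIdeal (X.presheaf.stalk x) ^ 2).map e.toRingEquiv.toRingHom :=
      Ideal.mem_map_of_mem e.toRingEquiv.toRingHom h2
    rw [Ideal.map_pow] at h3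
    have h4 : (IsLocalRing.maximalIdeal (X.presheaf.stalk x)).map e.toRingEquiv.toRingHom ≤
        IsLocalRing.maximalIdeal (Localization.AtPrime p) := by
      rw [Ideal.map_le_iff_le_comap]
      intro a ha
      rw [Ideal.mem_comap, IsLocalRing.mem_maximalIdeal, mem_nonunits_iff]
      intro hu
      have h5 : IsUnit a := by
        have h6 := hu.map e.symm
        have h7 : e.symm (e.toRingEquiv.toRingHom a) = a := e.symm_apply_apply a
        rwa [h7] at h6
      exact ha h5
    have h8 := Ideal.pow_right_mono h4 2 h3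
    have h9 : e t = algebraMap A (Localization.AtPrime p) (K658.ProjSec.θ ι j h) := by
      rw [← ht]
      exact e.commutes _
    rwa [h9] at h8
  · rw [Groth.Agent.Divis.CartierBasic.stalkIdeal_eq _ ⟨K658.ProjSec.W ι j, hU⟩ hj, ideal_zeroScheme_hs,
      Ideal.map_span, Set.image_singleton]

/-- **General hyperplane sections.** -/
theorem exists_section [IsAlgClosed k] (U : X.Opens) :
    ∃ h : CohB1.polyGrading n k 1,
      (∀ x : X, ∃ y, y ⤳ x ∧ y ∈ CohB1.genLocus _ (hs ι h)) ∧
      (∀ x : X, x ∉ U → x ∉ CohB1.genLocus _ (hs ι h) → ∃ z, z ⤳ x ∧ z ≠ x ∧ z ∉ U) ∧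
      (∀ x : X, IsRegularLocalRing (X.presheaf.stalk x) → x ∉ CohB1.genLocus _ (hs ι h) →
        ∃ t : X.presheaf.stalk x, t ∈ IsLocalRing.maximalIdeal (X.presheaf.stalk x) ∧
          t ∉ IsLocalRing.maximalIdeal (X.presheaf.stalk x) ^ 2 ∧
          Groth.Agent.Divis.CartierBasic.stalkIdeal (PicF2.zeroScheme _ (hs ι h)) x = Ideal.span {t}) := by
  classical
  have hι : @IsClosedImmersion X (Proj (CohB1.polyGrading n k)) ι := ‹IsClosedImmersion ι›
  have hemb := ι.isEmbedding
  let T₁ : Set (ProjSpace n k) := Set.range ι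
  let T₂ : Set (ProjSpace n k) := ι '' (U : Set X)ᶜ
  have hT₁ : IsClosed T₁ := ι.isClosedEmbedding.isClosed_range
  have hT₂ : IsClosed T₂ := ι.isClosedEmbedding.isClosedMap _ U.2.isClosed_compl
  have hf₁ := K418.HypIrred.finite_max (k := k) hT₁
  have hf₂ := K418.HypIrred.finite_max (k := k) hT₂
  let F : Finset (ProjSpace n k) := hf₁.toFinset ∪ hf₂.toFinset
  obtain ⟨G0, hG0, hG0'⟩ := K418.HypSec.exists_good_reg ι
  choose G hG hG' using K418.HypSec.exists_poly_notMem (k := k) (n := n)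
  have hP : G0 * ∏ z ∈ F, G z ≠ 0 := mul_ne_zero hG0 (Finset.prod_ne_zero_iff.mpr fun z _ => hG z)
  obtain ⟨a, ha⟩ : ∃ a : Fin (n + 1) → k, MvPolynomial.eval a (G0 * ∏ z ∈ F, G z) ≠ 0 := by
    by_contra hcon
    push Not at hcon
    exact hP (MvPolynomial.funext fun x => by rw [hcon x, map_zero])
  let h : CohB1.polyGrading n k 1 := K658.ProjSec.lin a
  have ha' : MvPolynomial.eval (fun i => MvPolynomial.coeff (Finsupp.single i 1)
      (h : MvPolynomial (Fin (n + 1)) k)) (G0 * ∏ z ∈ F, G z) ≠ 0 := by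
    have h1 : (fun i => MvPolynomial.coeff (Finsupp.single i 1) (h : MvPolynomial (Fin (n + 1)) k)) = a :=
      funext fun i => K658.ProjSec.coeff_lin a i
    rw [h1]
    exact ha
  rw [map_mul, map_prod] at ha'
  have hreg := hG0' h (left_ne_zero_of_mul ha')
  have hF : ∀ z ∈ F, (h : MvPolynomial (Fin (n + 1)) k) ∉ idl z := fun z hz =>
    hG' z h (Finset.prod_ne_zero_iff.mp (right_ne_zero_of_mul ha') z hz)
  refine ⟨h, fun x => ?_, fun x hx hxs => ?_, fun x hx hxs => stalk_eq ι h hreg x hx hxs⟩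
  · obtain ⟨c, hc, hcx, hmax⟩ := exists_max hT₁ (ι x) (Set.mem_range_self x)
    obtain ⟨y, rfl⟩ := hc
    refine ⟨y, hemb.isInducing.specializes_iff.mp hcx, ?_⟩
    by_contra hy
    rw [notMem_genLocus_iff] at hy
    exact hF _ (Finset.mem_union_left _ (hf₁.mem_toFinset.2 ⟨Set.mem_range_self y, hmax⟩)) hy
  · obtain ⟨c, ⟨z, hz, rfl⟩, hcx, hmax⟩ := exists_max hT₂ (ι x) ⟨x, hx, rfl⟩
    refine ⟨z, hemb.isInducing.specializes_iff.mp hcx, ?_, hz⟩
    rintro rfl
    rw [notMem_genLocus_iff] at hxs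
    exact hF _ (Finset.mem_union_right _ (hf₂.mem_toFinset.2 ⟨⟨z, hz, rfl⟩, hmax⟩)) hxs

end K476.HypSect
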