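import Groth.Agent.RefCh.K476.AdjCut
import Groth.Agent.RefCh.K476.HypSect
import Groth.Agent.RefCh.K938.IntF
import Groth.Agent.Surf.K461.SerreDual
import Groth.Agent.SDiv.K476.Ref1

/-!
# The adjunction formula for intersection numbers with very ample modules

* `claim`: `∫ c₁(H)^m · [O] + ∫ c₁(H)^m · [H^m ⊗ ω] = 0`, `dim X = m + 1`, `ω` the canonical module on an open subset whose
  complement has dimension `< m`.
-/

set_option autoImplicit false
universe u

open CategoryTheory CategoryTheory.Limits AlgebraicGeometry Opposite TopologicalSpace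

namespace K476.AdjInd

open Groth.Agent Groth.Agent.VarietyB Groth.Agent.Fga.RegSec Groth.Agent.Fdesc.LocGen Groth.Agent.Ega2

/-! ### Dimension of supports -/

theorem dim_support_lt (k : Type u) [Field k] {X : Scheme.{u}} [X.Over (Spec (CommRingCat.of k))]
    [LocallyOfFiniteType (X ↘ Spec (CommRingCat.of k))] {F : X.Modules} (hF : Coh.IsCoh F) (m : ℕ)
    (h : ∀ x ∈ CohB1.support F, DimSch.trd k X x < m) : topologicalKrullDim (CohB1.support F) < (m : WithBot ℕ∞) := by
  have hcl : IsClosed (CohB1.support F) := by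
    have : IsLocallyNoetherian X := LocallyOfFiniteType.isLocallyNoetherian (X ↘ Spec (CommRingCat.of k))
    exact Ega3B.Devissage.isClosed_support hF
  let I := Scheme.IdealSheafData.vanishingIdeal (⟨CohB1.support F, hcl⟩ : Closeds X)
  have hr : Set.range I.subschemeι = CohB1.support F := by
    rw [Scheme.IdealSheafData.range_subschemeι, Scheme.IdealSheafData.coe_support_vanishingIdeal]
    rfl
  have hdim : topologicalKrullDim I.subscheme = topologicalKrullDim (CohB1.support F) := by
    rw [← hr]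
    exact IsHomeomorph.topologicalKrullDim_eq _
      (I.subschemeι.isClosedEmbedding.isEmbedding.toHomeomorph.isHomeomorph)
  let _ : I.subscheme.Over (Spec (CommRingCat.of k)) := ⟨I.subschemeι ≫ (X ↘ Spec (CommRingCat.of k))⟩
  have hover : I.subschemeι ≫ (X ↘ Spec (CommRingCat.of k)) = I.subscheme ↘ Spec (CommRingCat.of k) := rfl
  have hft : LocallyOfFiniteType (I.subscheme ↘ Spec (CommRingCat.of k)) := by rw [← hover]; infer_instance
  have hs : ∀ y : I.subscheme, DimSch.trd k I.subscheme y < m := by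
    intro y
    rw [K476.AdjCut.trd_eq I.subschemeι hover]
    exact h _ (hr ▸ Set.mem_range_self y)
  rw [← hdim]
  cases m with
  | zero =>
    have : topologicalKrullDim I.subscheme = ⊥ := by
      rw [topologicalKrullDim, Order.krullDim_eq_bot_iff]
      refine ⟨fun Z => ?_⟩
      obtain ⟨y, _⟩ := Z.2.nonempty
      exact absurd (hs y) (Nat.not_lt_zero _)
    rw [this]
    exact WithBot.bot_lt_coe _
  | succ m =>
    have h1 := (EtpbcA.Artin.topologicalKrullDim_le_iff_trd k I.subscheme m).mpr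
      (fun x => Nat.lt_succ_iff.mp (hs x))
    exact lt_of_le_of_lt h1 (by exact_mod_cast Nat.lt_succ_self m)

/-! ### The kernel of the multiplication by a section at the points where it generates -/

section Kernel

variable {X : Scheme.{u}} {N : X.Modules} (s : Coh.structureModule X ⟶ N) (F : X.Modules)

theorem not_mem_support_kernel_mulS' (hN : PicF.IsInvertible N) {x : X} (hx : x ∈ CohB1.genLocus N s) :
    x ∉ CohB1.support (kernel (mulS s F)) := by
  obtain ⟨U, e, hxU, he⟩ := (isInvertible_iff N).mp hN x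
  obtain ⟨a, ha⟩ := he.exists_eq (sec s U)
  have ha0 : IsUnit (X.presheaf.germ U x hxU a) := by
    rw [← Scheme.mem_basicOpen _ _ _ hxU, ← genLocus_inf_eq s he ha]
    exact ⟨hx, hxU⟩
  refine K476.HypCut.not_mem_support_kernel_of_injective _ ?_
  rw [injective_iff_map_eq_zero]
  intro t ht
  obtain ⟨V, hxV, m, rfl⟩ := TopCat.Presheaf.exists_germ_eq F.presheaf t
  rw [stalkF_map_germ, mulS_app] at ht
  obtain ⟨W, hW, hxW, hres⟩ := exists_res_eq_zero (CohB1.tensorMod N F) hxV _ ht
  have hWU : W ⊓ U ≤ U := inf_le_right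
  have hWV : W ⊓ U ≤ V := inf_le_left.trans hW
  have h1 : tmul (res N hWU e) (ores hWU a • res F hWV m) = 0 := by
    have h2 := congrArg (res (CohB1.tensorMod N F) (inf_le_left : W ⊓ U ≤ W)) hres
    rw [map_zero, res_tmul, res_tmul, res_sec, res_sec, ← res_sec s hWU, ha, res_smul, smul_tmul, ← tmul_smul,
      res_res] at h2
    exact h2
  have h2 : ores hWU a • res F hWV m = 0 := by
    refine (tmul_left_bijective F he hWU).1 ?_
    beta_reduce
    rw [h1]
    exact (TensGen.tmul_zero _).symm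
  have hxWU : x ∈ W ⊓ U := ⟨hxW, hxU⟩
  have h3 := congrArg (F.presheaf.germ (W ⊓ U) x hxWU) h2
  rw [map_zero, Fdesc.QCohStalk.germ_smul', germ_res'] at h3
  have h4 : X.presheaf.germ (W ⊓ U) x hxWU (ores hWU a) = X.presheaf.germ U x hxU a :=
    TopCat.Presheaf.germ_res_apply _ _ _ _ _
  rw [h4] at h3
  have h5 : (F.presheaf.germ V x hxV m : F.presheaf.stalk x) = 0 := ha0.smul_eq_zero.mp h3
  exact h5

theorem isTorsionFree_of_restrict {U : X.Opens} (h : PicF.IsInvertible (F.restrict U.ι)) {x : X} (hx : x ∈ U)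
    (_hd : IsDomain (X.presheaf.stalk x)) : Module.IsTorsionFree (X.presheaf.stalk x) (F.presheaf.stalk x) := by
  obtain ⟨t, ht⟩ := K476.Ref1.exists_isGen_of_restrict h hx
  have := K476.Ref1.free_of_isGen ht
  infer_instance

end Kernel

/-! ### The base case -/

theorem dim_le_of_smooth {k : Type u} [Field k] {V : Scheme.{u}} [V.Over (Spec (CommRingCat.of k))] (n : ℕ)
    [hV : SmoothOfRelativeDimension n (V ↘ Spec (CommRingCat.of k))] : topologicalKrullDim V ≤ n := by
  rw [DimTop.topologicalKrullDim_eq_iSup_localDim]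
  exact iSup_le fun x => (UnramA.SmoothFibreDim.localDim_eq n (V ↘ Spec (CommRingCat.of k)) x).le

theorem euler_dual (k : Type u) [Field k] {V : Scheme.{u}} [V.Over (Spec (CommRingCat.of k))]
    [IsProper (V ↘ Spec (CommRingCat.of k))] [SmoothOfRelativeDimension 1 (V ↘ Spec (CommRingCat.of k))] (W : V.Modules)
    (hW : ExtPow.IsExtPow 1 (Omega.sheaf (V ↘ Spec (CommRingCat.of k))) W) :
    FGA.eulerCharLE k V (Coh.structureModule V) 1 + FGA.eulerCharLE k V W 1 = 0 := by
  have hO : Coh.IsQCoh (Coh.structureModule V) := by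
    have : IsLocallyNoetherian V := LocallyOfFiniteType.isLocallyNoetherian (V ↘ Spec (CommRingCat.of k))
    exact K939.Ref1.isCoh_structureModule.1
  have e : Nonempty (CohB1.tensorMod (Coh.structureModule V) (Coh.structureModule V) ≅ Coh.structureModule V) :=
    ⟨Tens.lunit _⟩
  have h1 := K461.SerreDual.finrank_eq k 1 hW e hO 0 1 rfl
  have h2 := K461.SerreDual.finrank_eq k 1 hW e hO 1 0 rfl
  have h3 : FGA.eulerCharLE k V W 1 = FGA.eulerCharLE k V (CohB1.tensorMod W (Coh.structureModule V)) 1 :=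
    Fga.PicMon.euler_iso k V ((Tens.lunit W).symm ≪≫ Tens.swap _ _) 1
  rw [h3]
  unfold FGA.eulerCharLE
  simp only [Finset.sum_range_succ, Finset.sum_range_zero]
  rw [h1, h2]
  ring

theorem killed_of_isIso {X Z : Scheme.{u}} (i : Z ⟶ X) [IsIso i] (F : X.Modules) : ClSub.KilledByIdeal i.ker F := by
  intro U a ha m
  have h1 : a = 0 := by
    rw [Scheme.Hom.ker_apply, RingHom.mem_ker] at ha
    exact (ConcreteCategory.bijective_of_isIso (i.app U.1)).1 (ha.trans (map_zero _).symm)
  rw [h1, zero_smul]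

theorem base (k : Type u) [Field k] (X : Scheme.{u}) [X.Over (Spec (CommRingCat.of k))]
    [IsProper (X ↘ Spec (CommRingCat.of k))] (d : ℕ) (hd : topologicalKrullDim X ≤ d) (U : X.Opens) (hUt : U = ⊤)
    (hU : SmoothOfRelativeDimension 1 (U.ι ≫ (X ↘ Spec (CommRingCat.of k)))) (ω : X.Modules)
    (hωU : ExtPow.IsExtPow 1 (Omega.sheaf (U.ι ≫ (X ↘ Spec (CommRingCat.of k)))) (ω.restrict U.ι)) :
    FGA.eulerCharLE k X (Coh.structureModule X) d + FGA.eulerCharLE k X ω d = 0 := by
  have hiso : IsIso U.ι := by subst hUt; exact (inferInstance : IsIso X.topIso.hom)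
  let _ : (U : Scheme.{u}).Over (Spec (CommRingCat.of k)) := ⟨U.ι ≫ (X ↘ Spec (CommRingCat.of k))⟩
  have hover : U.ι ≫ (X ↘ Spec (CommRingCat.of k)) = (U : Scheme.{u}) ↘ Spec (CommRingCat.of k) := rfl
  have hp : IsProper ((U : Scheme.{u}) ↘ Spec (CommRingCat.of k)) := by rw [← hover]; infer_instance
  have hs : SmoothOfRelativeDimension 1 ((U : Scheme.{u}) ↘ Spec (CommRingCat.of k)) := hU
  have key : ∀ F : X.Modules, FGA.eulerCharLE k X F d = FGA.eulerCharLE k U ((Scheme.Modules.pullback U.ι).obj F) 1 := by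
    intro F
    have h1 := Fga.MultInt.euler_push k U.ι hover ((Scheme.Modules.pullback U.ι).obj F) d
    have h2 : FGA.eulerCharLE k X F d =
        FGA.eulerCharLE k X ((Coh.push U.ι).obj ((Scheme.Modules.pullback U.ι).obj F)) d :=
      Fga.PicMon.euler_iso k X (Groth.Agent.FormalA.ClosedImm.pushPullIso U.ι (killed_of_isIso U.ι F)).symm d
    have h3 : topologicalKrullDim U ≤ d := by
      refine le_trans (le_of_eq ?_) hd
      exact IsHomeomorph.topologicalKrullDim_eq _ (Scheme.Hom.homeomorph U.ι).isHomeomorph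
    rw [h2, h1, Fga.IntAdd.eulerCharLE_eq k U d h3, Fga.IntAdd.eulerCharLE_eq k U 1 (dim_le_of_smooth (k := k) 1)]
  rw [key, key]
  have h4 := euler_dual k (V := U) (ω.restrict U.ι) hωU
  rw [← h4]
  congr 1
  · exact Fga.PicMon.euler_iso k U (K939.FlatDual.unitIso U.ι) 1
  · exact Fga.PicMon.euler_iso k U ((Scheme.Modules.restrictFunctorIsoPullback U.ι).app ω).symm 1

/-! ### The inductive step -/

open K476.AdjCut K476.HypCut K476.HypSect

section Step

variable (k : Type u) [Field k] [IsAlgClosed k] {X : Scheme.{u}} [X.Over (Spec (CommRingCat.of k))]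
  [IsProper (X ↘ Spec (CommRingCat.of k))]

/-- The kernel of the multiplication by a transversal section does not contribute. -/
theorem kernel_zero (d : ℕ) (hd : topologicalKrullDim X ≤ d) (m : ℕ) {H0 H' : X.Modules} (hH0 : PicF.IsInvertible H0)
    (hH' : PicF.IsInvertible H') (s : Coh.structureModule X ⟶ H0) (U : X.Opens)
    (hUs : Smooth (U.ι ≫ (X ↘ Spec (CommRingCat.of k)))) (hUc : ∀ x : X, x ∉ U → DimSch.trd k X x < m + 1)
    (hs : Transv s U) (hsU : ∀ x : X, x ∉ U → x ∉ CohB1.genLocus _ s → ∃ z, z ⤳ x ∧ z ≠ x ∧ z ∉ U)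
    (F : X.Modules) (hF : Coh.IsCoh F) (hFU : PicF.IsInvertible (F.restrict U.ι)) :
    FGA.intNum k X d (fun _ : Fin m => H') (CohB1.tensorMod H' (kernel (mulS s F))) = 0 := by
  have : IsLocallyNoetherian X := LocallyOfFiniteType.isLocallyNoetherian (X ↘ Spec (CommRingCat.of k))
  have hNF : Coh.IsCoh (CohB1.tensorMod H0 F) :=
    Sga67.CohBasic.isCoh_of_iso (Tens.swap F H0) (Groth.Agent.Fga.TwistCoh.isCoh_tensor hF hH0)
  have hK : Coh.IsCoh (kernel (mulS s F)) := Sga67.CohBasic.isCoh_kernel _ hF hNF.1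
  rw [Fga.PicMon.intNum_iso k X d _ (Tens.swap H' (kernel (mulS s F)))]
  refine S3231.result k X d hd _ (fun _ => hH') _ (Groth.Agent.Fga.TwistCoh.isCoh_tensor hK hH')
    (dim_support_lt k (Groth.Agent.Fga.TwistCoh.isCoh_tensor hK hH') m fun x hx => ?_)
  have hx1 := Groth.Agent.Fga.TwistCoh.support_tensor_subset hH' hx
  have hxg : x ∉ CohB1.genLocus H0 s := fun h => not_mem_support_kernel_mulS' s F hH0 h hx1
  have hxU : x ∉ U := by
    intro h
    obtain ⟨y, hyx, hy⟩ := hs.gen x h
    have hreg := isRegular_of_mem hUs h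
    have hdom : IsDomain (X.presheaf.stalk x) := Groth.Agent.CalgA.RegBasic.isDomain _
    exact not_mem_support_kernel_mulS s F hH0 hdom (isTorsionFree_of_restrict F hFU h hdom) hyx hy hx1
  obtain ⟨z, hzx, hne, hz⟩ := hsU x hxU hxg
  have h1 := K426.Cut.trd_lt k hzx hne
  have h2 := hUc z hz
  omega

end Step

/-! ### The formula -/

open Groth.Agent.Fga.PicMon (mc mc_eq mc_eq_iff mc_tensor mc_one mc_tensorPow)

theorem mc_pull_pow {A B : Scheme.{u}} (f : A ⟶ B) (M : B.Modules) (n : ℕ) :
    mc ((Scheme.Modules.pullback f).obj (CohB1.tensorPow M n)) = mc ((Scheme.Modules.pullback f).obj M) ^ n := by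
  induction n with
  | zero => exact mc_eq (K939.FlatDual.unitIso f)
  | succ n ih =>
    have h : mc ((Scheme.Modules.pullback f).obj (CohB1.tensorPow M (n + 1))) =
        mc ((Scheme.Modules.pullback f).obj (CohB1.tensorPow M n)) * mc ((Scheme.Modules.pullback f).obj M) :=
      mc_pull f (CohB1.tensorPow M n) M
    rw [h, ih, pow_succ]

theorem isInvertible_restrict {X : Scheme.{u}} (U : X.Opens) {M : X.Modules} (hM : PicF.IsInvertible M) :
    PicF.IsInvertible (M.restrict U.ι) :=
  K476.HomSh6.isInvertible_of_iso ((Scheme.Modules.restrictFunctorIsoPullback U.ι).app M).symm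
    (isInvertible_pullback U.ι hM)

theorem isInvertible_restrict_tensor {X : Scheme.{u}} (U : X.Opens) {M P : X.Modules} (hM : PicF.IsInvertible M)
    (hP : PicF.IsInvertible (P.restrict U.ι)) : PicF.IsInvertible ((CohB1.tensorMod M P).restrict U.ι) := by
  refine K476.HomSh6.isInvertible_of_iso ((Scheme.Modules.restrictFunctorIsoPullback U.ι).app _ ≪≫
    K939.FlatDual.tensorIso U.ι M P).symm (isInvertible_tensorMod (isInvertible_pullback U.ι hM) ?_)
  exact K476.HomSh6.isInvertible_of_iso ((Scheme.Modules.restrictFunctorIsoPullback U.ι).app P) hP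

theorem claim (k : Type u) [Field k] [IsAlgClosed k] (N : ℕ) (m : ℕ) : ∀ {X : Scheme.{u}}
    [X.Over (Spec (CommRingCat.of k))] [IsProper (X ↘ Spec (CommRingCat.of k))] (ι : X ⟶ CohB1.ProjSpace N k)
    [IsClosedImmersion ι] (d : ℕ) (_ : topologicalKrullDim X ≤ d) (H' : X.Modules)
    (_ : Nonempty (CohB1.tensorMod H' ((Scheme.Modules.pullback ι).obj (Twist.twistProjSpace N k 1)) ≅
      Coh.structureModule X)) (U : X.Opens) (_ : ∀ x : X, x ∉ U → DimSch.trd k X x < m)
    (_ : SmoothOfRelativeDimension (m + 1) (U.ι ≫ (X ↘ Spec (CommRingCat.of k)))) (ω : X.Modules) (_ : Coh.IsCoh ω)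
    (_ : ExtPow.IsExtPow (m + 1) (Omega.sheaf (U.ι ≫ (X ↘ Spec (CommRingCat.of k)))) (ω.restrict U.ι)),
    FGA.intNum k X d (fun _ : Fin m => H') (Coh.structureModule X) +
      FGA.intNum k X d (fun _ : Fin m => H') (CohB1.tensorMod
        (CohB1.tensorPow ((Scheme.Modules.pullback ι).obj (Twist.twistProjSpace N k 1)) m) ω) = 0 := by
  induction m with
  | zero =>
    intro X _ _ ι _ d hd H' hH' U hUc hU ω hω hωU
    have hUt : U = ⊤ := by
      refine TopologicalSpace.Opens.ext (Set.eq_univ_of_forall fun x => ?_)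
      by_contra h
      exact absurd (hUc x h) (Nat.not_lt_zero _)
    rw [Fga.PicMon.intNum_zero, Fga.PicMon.intNum_zero]
    have h1 := base k X d hd U hUt hU ω hωU
    rw [← h1]
    congr 1
    exact Fga.PicMon.euler_iso k X (Tens.lunit ω) d
  | succ m ih =>
    intro X _ _ ι _ d hd H' hH' U hUc hU ω hω hωU
    have : IsLocallyNoetherian X := LocallyOfFiniteType.isLocallyNoetherian (X ↘ Spec (CommRingCat.of k))
    set H0 := (Scheme.Modules.pullback ι).obj (Twist.twistProjSpace N k 1) with hH0def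
    have hH0 : PicF.IsInvertible H0 := isInvertible_pull ι
    have hH'i : PicF.IsInvertible H' := K939.Op2.isInvertible_of_tensor (Tens.swap _ _ ≪≫ hH'.some)
    have hUs : Smooth (U.ι ≫ (X ↘ Spec (CommRingCat.of k))) := SmoothOfRelativeDimension.smooth (m + 1 + 1) _
    obtain ⟨h, h1, h2, h3⟩ := exists_section ι U
    have hs : Transv (HypSect.hs ι h) U :=
      ⟨fun x _ => h1 x, fun x hx hg => h3 x (isRegular_of_mem hUs hx) hg⟩
    -- the zero scheme
    let Z := (PicF2.zeroScheme H0 (HypSect.hs ι h)).subscheme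
    let i : Z ⟶ X := (PicF2.zeroScheme H0 (HypSect.hs ι h)).subschemeι
    let _ : Z.Over (Spec (CommRingCat.of k)) := ⟨i ≫ (X ↘ Spec (CommRingCat.of k))⟩
    have hi : i ≫ (X ↘ Spec (CommRingCat.of k)) = Z ↘ Spec (CommRingCat.of k) := rfl
    have hZp : IsProper (Z ↘ Spec (CommRingCat.of k)) := by rw [← hi]; infer_instance
    have hker : i.ker = PicF2.zeroScheme H0 (HypSect.hs ι h) := Scheme.IdealSheafData.ker_subschemeι _
    have hdZ : topologicalKrullDim Z ≤ d :=
      i.isClosedEmbedding.isInducing.topologicalKrullDim_le.trans hd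
    have hUcZ : ∀ z : Z, z ∉ i ⁻¹ᵁ U → DimSch.trd k Z z < m := by
      intro z hz
      rw [trd_eq i hi]
      have hzg : i z ∉ CohB1.genLocus H0 (HypSect.hs ι h) := by
        rw [← Groth.Agent.Pi1C.ZeroScheme.mem_support_iff _ hH0, ← hker]
        exact i.range_subset_ker_support (Set.mem_range_self z)
      obtain ⟨w, hwz, hne, hw⟩ := h2 (i z) hz hzg
      have h4 := K426.Cut.trd_lt k hwz hne
      have h5 := hUc w hw
      omega
    -- the cut
    have hcut : ∀ F : X.Modules, Coh.IsCoh F → PicF.IsInvertible (F.restrict U.ι) →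
        FGA.intNum k X d (fun _ : Fin (m + 1) => H') F =
          FGA.intNum k Z d (fun _ : Fin m => (Scheme.Modules.pullback i).obj H') ((Scheme.Modules.pullback i).obj F) := by
      intro F hF hFU
      have h4 := intNum_cut k X Z d hd (fun _ : Fin m => H') (fun _ => hH'i) hH0 hH'i hH' (HypSect.hs ι h) i hi hker F hF
        (kernel_zero k d hd m hH0 hH'i (HypSect.hs ι h) U hUs (fun x hx => hUc x hx) hs h2 F hF hFU)
      rw [← h4]
      congr 1
      exact (Fin.cons_self_tail (fun _ : Fin (m + 1) => H')).symm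
    have hωi : PicF.IsInvertible (ω.restrict U.ι) :=
      K476.BigOpen.isInvertible_extPow (Groth.Agent.Dual.H339.OmegaRank.isFinLocFreeOfRank_omega (m + 1 + 1) _) hωU
    have hpow : PicF.IsInvertible (CohB1.tensorPow H0 (m + 1)) := isInvertible_tensorPow hH0 (m + 1)
    rw [hcut _ K939.Ref1.isCoh_structureModule (isInvertible_restrict U isInvertible_structureModule),
      hcut _ (Groth.Agent.Fga.SnapperTwist.isCoh_tensor' hpow hω) (isInvertible_restrict_tensor U hpow hωi)]
    -- the induction hypothesis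
    have hιZ : IsClosedImmersion (i ≫ ι) := inferInstance
    have h0Z : mc ((Scheme.Modules.pullback (i ≫ ι)).obj (Twist.twistProjSpace N k 1)) =
        mc ((Scheme.Modules.pullback i).obj H0) :=
      mc_eq (((Scheme.Modules.pullbackComp i ι).app _).symm)
    have hH'Z : Nonempty (CohB1.tensorMod ((Scheme.Modules.pullback i).obj H')
        ((Scheme.Modules.pullback (i ≫ ι)).obj (Twist.twistProjSpace N k 1)) ≅ Coh.structureModule Z) := by
      rw [← mc_eq_iff, mc_tensor, h0Z, ← mc_pull, mc_one, ← mc_one]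
      rw [mc_one]
      exact mc_eq ((Scheme.Modules.pullback i).mapIso hH'.some ≪≫ K939.FlatDual.unitIso i)
    have hadj := adjunction i hi hH0 hker hs (m + 1) hU ω hωU
    have key := ih (X := Z) (i ≫ ι) d hdZ ((Scheme.Modules.pullback i).obj H') hH'Z (i ⁻¹ᵁ U) hUcZ
      (smooth_cut i hi hH0 hker hs (m + 1) hU)
      (CohB1.tensorMod ((Scheme.Modules.pullback i).obj H0) ((Scheme.Modules.pullback i).obj ω))
      (Groth.Agent.Fga.SnapperTwist.isCoh_tensor' (isInvertible_pullback i hH0)
        (K939.FlatDual.isCoh_pullback i hω)) hadj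
    rw [← key]
    congr 1
    · exact Fga.PicMon.intNum_iso k Z d _ (K939.FlatDual.unitIso i)
    · refine Fga.PicMon.intNum_iso k Z d _ (Nonempty.some ((mc_eq_iff _ _).1 ?_))
      rw [mc_pull, mc_pull_pow, mc_tensor, mc_tensorPow, h0Z, mc_tensor, pow_succ, mul_assoc]

end K476.AdjInd
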