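import Groth.Agent.RefCh.K476.BigOpen
import Groth.Agent.RefCh.K938.RefCl
import Groth.Agent.Dual.H366.ExtQCoh
import Mathlib.Analysis.SpecificLimits.Basic

/-!
# Sequences of reflexive Frobenius pull-backs

* `isRef1_det`: the reflexive determinant is reflexive of rank one;
* `Seq`: a coherent reflexive module of rank `r` and its reflexive Frobenius pull-backs;
* `Seq.value`: `F(G_m) = r F(O) + p^m (F(det E) - F(O))` for an additive function killing codimension `≥ 2`;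
* `nonempty_refPow_refPow`, `Seq.det_iso`: `det G_m = (det E)^[p^m]`.
-/

set_option autoImplicit false
set_option linter.style.haveILetI false
universe u v

open CategoryTheory CategoryTheory.Limits AlgebraicGeometry Opposite TopologicalSpace

namespace K476.FrobSeq

open Groth.Agent K476.BigOpen K939.Abs K939.FlatDual

variable {X : Scheme.{u}} [IsIntegral X]

/-- The reflexive determinant. -/
theorem isRef1_det [IsLocallyNoetherian X] (hX : Pi1.IsNormalScheme X) {r : ℕ} {E W : X.Modules} (hE : Coh.IsCoh E)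
    (hEr : RefHull.IsReflexive E)
    (hrk : Module.finrank (X.presheaf.stalk (genericPoint X)) (E.presheaf.stalk (genericPoint X)) = r)
    (hW : ExtPow.IsExtPow r E W) : RefHull.IsRef1 (RefHull.ddual W) := by
  obtain ⟨U, hU, hEU⟩ := exists_big hX hE hEr hrk
  have hE1 : FlatMod.IsFinLocFreeOfRank r ((Scheme.Modules.pullback U.ι).obj E) :=
    rank_of_iso ((Scheme.Modules.restrictFunctorIsoPullback U.ι).app E) hEU
  have hWi : PicF.IsInvertible ((Scheme.Modules.pullback U.ι).obj W) :=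
    isInvertible_extPow hE1 (K583.ExtPowPull.isExtPow_pullback U.ι hE.1 hW)
  exact K476.Ref1.isRef1_ddual (K939.ExtIdx.isCoh_of_isExtPow hE hW) ⟨U, U.2.dense hU.nonempty',
    isInvertible_of_iso ((Scheme.Modules.restrictFunctorIsoPullback U.ι).app W).symm hWi⟩

/-- `(D^[a])^[b] = D^[ab]`. -/
theorem nonempty_refPow_refPow [IsLocallyNoetherian X] (hX : Pi1.IsNormalScheme X) {D : X.Modules}
    (hD : RefHull.IsRef1 D) (a b : ℕ) :
    Nonempty (RefPow.refPow (RefPow.refPow D a) b ≅ RefPow.refPow D (a * b)) := by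
  let _ := K938.RefCl.law hX
  have h := K938.RefCl.cls_refPow (K476.Ref1.isRef1_refPow hD a) b
  rw [K938.RefCl.cls_refPow hD a, ← pow_mul, ← K938.RefCl.cls_refPow hD (a * b)] at h
  exact (RefFun.cls_eq_cls_iff _ _).1 h

variable {A : Type v} [AddCommGroup A]

/-- Additive functions killing codimension two are isomorphism invariant. -/
theorem eq_of_iso {δ : X → ℤ} {F : X.Modules → A} (hX : Cyc.IsSetup X δ) (hF : IsAdd2 F) {L M : X.Modules}
    (hL : Coh.IsCoh L) (e : L ≅ M) : F L = F M := by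
  have := hX.1
  exact eq_of_bij hX hF hL ((Groth.Agent.CycB.CohProp.coh X).prop_of_iso e hL) e.hom fun x _ =>
    (Groth.Agent.CycB.StalkExact.stalkLinEquiv e x).bijective

variable [IsNoetherian X] (p : ℕ) [Fact p.Prime] [FrobSch.IsCharP X p]

/-- A coherent reflexive module and its reflexive Frobenius pull-backs. -/
structure Seq (r : ℕ) (G : ℕ → X.Modules) : Prop where
  coh : ∀ m, Coh.IsCoh (G m)
  refl : ∀ m, RefHull.IsReflexive (G m)
  rank : ∀ m, Module.finrank (X.presheaf.stalk (genericPoint X)) ((G m).presheaf.stalk (genericPoint X)) = r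
  step : ∀ m, Nonempty (G (m + 1) ≅ RefHull.ddual ((Scheme.Modules.pullback (FrobSch.frob X p)).obj (G m)))

theorem seq_of (hX : Pi1.IsNormalScheme X) {r : ℕ} {E : X.Modules} {G : ℕ → X.Modules} (hE : Coh.IsCoh E)
    (hEr : RefHull.IsReflexive E)
    (hrk : Module.finrank (X.presheaf.stalk (genericPoint X)) (E.presheaf.stalk (genericPoint X)) = r)
    (hG0 : G 0 = E)
    (hG : ∀ m, Nonempty (G (m + 1) ≅ RefHull.ddual ((Scheme.Modules.pullback (FrobSch.frob X p)).obj (G m)))) :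
    Seq p r G := by
  have h : ∀ m, Coh.IsCoh (G m) ∧ RefHull.IsReflexive (G m) ∧
      Module.finrank (X.presheaf.stalk (genericPoint X)) ((G m).presheaf.stalk (genericPoint X)) = r := by
    intro m
    induction m with
    | zero => rw [hG0]; exact ⟨hE, hEr, hrk⟩
    | succ m ih =>
      refine ⟨isCoh_frob p ih.1 (hG m), ?_, rk_frob p hX ih.1 ih.2.1 ih.2.2 (hG m)⟩
      obtain ⟨e⟩ := hG m
      exact K476.HomSh1.isReflexive_of_iso e.symm (K476.Ref1.isReflexive_ddual (isCoh_pullback _ ih.1))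
  exact ⟨fun m => (h m).1, fun m => (h m).2.1, fun m => (h m).2.2, hG⟩

variable {p}

/-- `det G_m = (det E)^[p^m]`. -/
theorem Seq.det_iso {r : ℕ} {G : ℕ → X.Modules} (hX : Pi1.IsNormalScheme X) (h : Seq p r G)
    {W : ℕ → X.Modules} (hW : ∀ m, ExtPow.IsExtPow r (G m) (W m)) (m : ℕ) :
    Nonempty (RefHull.ddual (W m) ≅ RefPow.refPow (RefHull.ddual (W 0)) (p ^ m)) := by
  induction m with
  | zero => exact ⟨Iso.refl _⟩
  | succ m ih =>
    obtain ⟨a⟩ := ih
    obtain ⟨b⟩ := det_frob p hX (h.coh m) (h.refl m) (h.rank m) (hW m) (h.step m) (hW (m + 1))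
    obtain ⟨c⟩ := nonempty_refPow_congr a p
    obtain ⟨d⟩ := nonempty_refPow_refPow hX (isRef1_det hX (h.coh 0) (h.refl 0) (h.rank 0) (hW 0)) (p ^ m) p
    rw [pow_succ]
    exact ⟨b ≪≫ c ≪≫ d⟩

omit [IsIntegral X] [AlgebraicGeometry.IsNoetherian X] [Fact (Nat.Prime p)] [FrobSch.IsCharP X p] in
theorem exists_ext {r : ℕ} {G : ℕ → X.Modules} (h : ∀ m, Coh.IsCoh (G m)) :
    ∃ W : ℕ → X.Modules, ∀ m, ExtPow.IsExtPow r (G m) (W m) := by
  choose W hW using fun m => Groth.Agent.Dual.H366.ExtQCoh.exists_isExtPow r (h m).1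
  exact ⟨W, hW⟩

open Filter Topology in
/-- `(α + p^m β) / p^{2m} → 0`. -/
theorem tendsto_zero (α β : ℝ) :
    Tendsto (fun m : ℕ => (α + (p : ℝ) ^ m * β) / (p : ℝ) ^ (2 * m)) atTop (𝓝 0) := by
  have hp : (1 : ℝ) < p := by exact_mod_cast (Fact.out : p.Prime).one_lt
  have hp0 : (0 : ℝ) < p := by linarith
  have h0 : Tendsto (fun m : ℕ => ((p : ℝ)⁻¹) ^ m) atTop (𝓝 0) :=
    tendsto_pow_atTop_nhds_zero_of_lt_one (inv_nonneg.2 hp0.le) (inv_lt_one_of_one_lt₀ hp)
  have h1 : Tendsto (fun m : ℕ => α * (((p : ℝ)⁻¹) ^ m * ((p : ℝ)⁻¹) ^ m) + β * ((p : ℝ)⁻¹) ^ m) atTop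
      (𝓝 (α * (0 * 0) + β * 0)) := ((h0.mul h0).const_mul α).add (h0.const_mul β)
  rw [show α * (0 * 0) + β * (0 : ℝ) = 0 by ring] at h1
  refine h1.congr fun m => ?_
  have hpm : ((p : ℝ) ^ m) ≠ 0 := pow_ne_zero _ hp0.ne'
  rw [two_mul, pow_add, inv_pow]
  field_simp

/-- `F(G_m) - r F(O) = p^m (F(det E) - F(O))`. -/
theorem Seq.value {r : ℕ} {G : ℕ → X.Modules} (hX : Pi1.IsNormalScheme X) (h : Seq p r G)
    {δ : X → ℤ} (hδ : Cyc.IsSetup X δ) {F : X.Modules → ℤ} (hF : IsAdd2 F)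
    {W : X.Modules} (hW : ExtPow.IsExtPow r (G 0) W) (m : ℕ) :
    F (G m) - r * F (Coh.structureModule X) =
      (p : ℤ) ^ m * (F (RefHull.ddual W) - F (Coh.structureModule X)) := by
  obtain ⟨V, hV⟩ := exists_ext (r := r) h.coh
  have htf : TorSh.IsTorsionFree (G m) := fun x => K476.Ref1.isTorsionFree_of_isReflexive (h.coh m) (h.refl m) x
  have h1 := K939.Abs2.detdd_sub hδ hX hF (h.coh m) (hV m) htf (h.rank m)
  obtain ⟨e⟩ := h.det_iso hX hV m
  obtain ⟨e'⟩ := Groth.Agent.Sga67.TensorOps.nonempty_iso_of_isExtPow (Iso.refl (G 0)) (hV 0) hW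
  have hV0 : Coh.IsCoh (V 0) := K939.ExtIdx.isCoh_of_isExtPow (h.coh 0) (hV 0)
  have hVm : Coh.IsCoh (V m) := K939.ExtIdx.isCoh_of_isExtPow (h.coh m) (hV m)
  have hr := isRef1_det hX (h.coh 0) (h.refl 0) (h.rank 0) (hV 0)
  rw [smul_eq_mul] at h1
  rw [h1, eq_of_iso hδ hF (K476.HomSh4.isCoh_ddual hVm) e,
    refPow_sub hδ hF (K476.HomSh4.isCoh_ddual hV0) (inv1_of_ref1 hδ hX hr), nsmul_eq_mul, Nat.cast_pow,
    eq_of_iso hδ hF (K476.HomSh4.isCoh_ddual hV0) (K476.HomSh1.ddualIso e')]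

open Filter Topology in
/-- `F(G_m) / p^{2m} → 0`. -/
theorem Seq.tendsto {r : ℕ} {G : ℕ → X.Modules} (hX : Pi1.IsNormalScheme X) (h : Seq p r G)
    {δ : X → ℤ} (hδ : Cyc.IsSetup X δ) {F : X.Modules → ℤ} (hF : IsAdd2 F) :
    Tendsto (fun m : ℕ => (F (G m) : ℝ) / (p : ℝ) ^ (2 * m)) atTop (𝓝 0) := by
  obtain ⟨V, hV⟩ := exists_ext (r := r) h.coh
  refine (tendsto_zero (p := p) ((r : ℝ) * F (Coh.structureModule X))
    ((F (RefHull.ddual (V 0)) : ℝ) - F (Coh.structureModule X))).congr fun m => ?_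
  have h1 := h.value hX hδ hF (hV 0) m
  have h2 : (F (G m) : ℝ) = (r : ℝ) * F (Coh.structureModule X) +
      (p : ℝ) ^ m * ((F (RefHull.ddual (V 0)) : ℝ) - F (Coh.structureModule X)) := by
    rw [sub_eq_iff_eq_add'] at h1
    rw [h1]
    push_cast
    ring
  rw [h2]

end K476.FrobSeq
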