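import Groth.Agent.RefCh.K476.QForm
import Groth.Agent.RefCh.K476.FrobSeq

/-!
# Frobenius roots and the Riemann-Roch bound, for a given quadratic form

* `cls_det_root`: `det E_m = (det E_{m+1})^p` for `E_m = (F^* E_{m+1})^**`;
* `root`: the pairing of the determinants of a sequence of Frobenius roots is zero;
* `uniq`: `c_2` is determined by the Riemann-Roch bound and the Frobenius scaling.
-/

set_option autoImplicit false
universe u

open CategoryTheory CategoryTheory.Limits AlgebraicGeometry Filter Topology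

namespace K476.Consumer

open RefFun K938.RefCl K938.Val K476.QForm K476.FrobSeq K476.BigOpen

variable {X : Scheme.{u}} [IsIntegral X] [AlgebraicGeometry.IsNoetherian X] [Law X]
variable (p : ℕ) [Fact p.Prime] [FrobSch.IsCharP X p]

/-- `det (F^* E)^** = (det E)^p` in the class group. -/
theorem cls_det_frob (hX : Pi1.IsNormalScheme X) {r : ℕ} {E E' W W' : X.Modules} (hE : Coh.IsCoh E)
    (hEr : RefHull.IsReflexive E)
    (hrk : Module.finrank (X.presheaf.stalk (genericPoint X)) (E.presheaf.stalk (genericPoint X)) = r)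
    (hW : ExtPow.IsExtPow r E W)
    (hE' : Nonempty (E' ≅ RefHull.ddual ((Scheme.Modules.pullback (FrobSch.frob X p)).obj E)))
    (hW' : ExtPow.IsExtPow r E' W') (h1 : RefHull.IsRef1 (RefHull.ddual W)) (h2 : RefHull.IsRef1 (RefHull.ddual W')) :
    cls (RefHull.ddual W') h2 = cls (RefHull.ddual W) h1 ^ p := by
  rw [← cls_refPow h1, cls_eq_cls_iff]
  exact det_frob p hX hE hEr hrk hW hE' hW'

/-- Sequences of Frobenius roots. -/
theorem root {φ : X.Modules → ℤ} (hφ : ∀ F G : X.Modules, Nonempty (F ≅ G) → φ F = φ G)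
    (hQ : QF (val (X := X) φ)) (hX : Pi1.IsNormalScheme X)
    (hint : ∃ N : ℕ, 0 < N ∧ ∀ (L₁ L₂ : X.Modules), RefHull.IsRef1 L₁ → RefHull.IsRef1 L₂ →
      ∀ (q₁ q₂ q₁₂ : ℝ), Tendsto (fun m : ℕ => (2 : ℝ) * (φ (RefPow.refPow L₁ m) : ℝ) / ((m : ℝ) ^ 2)) atTop (𝓝 q₁) →
        Tendsto (fun m : ℕ => (2 : ℝ) * (φ (RefPow.refPow L₂ m) : ℝ) / ((m : ℝ) ^ 2)) atTop (𝓝 q₂) →
        Tendsto (fun m : ℕ => (2 : ℝ) * (φ (RefPow.refPow (RefPow.refTensor L₁ L₂) m) : ℝ) / ((m : ℝ) ^ 2)) atTop (𝓝 q₁₂) →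
        ∃ z : ℤ, (N : ℝ) * ((q₁₂ - q₁ - q₂) / 2) = (z : ℝ))
    (r : ℕ) (E : ℕ → X.Modules) (hE : ∀ m, Coh.IsCoh (E m)) (hEr : ∀ m, RefHull.IsReflexive (E m))
    (hrk : ∀ m, Module.finrank (X.presheaf.stalk (genericPoint X)) ((E m).presheaf.stalk (genericPoint X)) = r)
    (hF : ∀ m, Nonempty (E m ≅ RefHull.ddual ((Scheme.Modules.pullback (FrobSch.frob X p)).obj (E (m + 1)))))
    (W : ℕ → X.Modules) (hW : ∀ m, ExtPow.IsExtPow r (E m) (W m)) (hdet : ∀ m, RefHull.IsRef1 (RefHull.ddual (W m)))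
    (D : X.Modules) (hD : RefHull.IsRef1 D) (m : ℕ) (q₁ q₂ q₁₂ : ℝ)
    (hq₁ : Tendsto (fun j : ℕ => (2 : ℝ) * (φ (RefPow.refPow (RefHull.ddual (W m)) j) : ℝ) / ((j : ℝ) ^ 2)) atTop (𝓝 q₁))
    (hq₂ : Tendsto (fun j : ℕ => (2 : ℝ) * (φ (RefPow.refPow D j) : ℝ) / ((j : ℝ) ^ 2)) atTop (𝓝 q₂))
    (hq₁₂ : Tendsto (fun j : ℕ => (2 : ℝ) * (φ (RefPow.refPow (RefPow.refTensor (RefHull.ddual (W m)) D) j) : ℝ) /
      ((j : ℝ) ^ 2)) atTop (𝓝 q₁₂)) :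
    (q₁₂ - q₁ - q₂) / 2 = 0 := by
  obtain ⟨N, hN, hN'⟩ := hint
  have h1 : ∀ x y : Ref1Set X, ∃ z : ℤ, (N : ℝ) * hQ.b x y = z := by
    intro x y
    obtain ⟨F, hF, rfl⟩ := exists_eq_cls x
    obtain ⟨G, hG, rfl⟩ := exists_eq_cls y
    exact hN' F G hF hG _ _ _ ((lim_iff hφ hF).1 (hQ.lim _)) ((lim_iff hφ hG).1 (hQ.lim _))
      ((lim_mul_iff hφ hF hG).1 (hQ.lim _))
  have h2 := hQ.root_zero hN h1 (p := p) (Fact.out : p.Prime).one_lt (fun m => cls (RefHull.ddual (W m)) (hdet m))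
    (fun m => cls_det_frob p hX (hE (m + 1)) (hEr (m + 1)) (hrk (m + 1)) (hW (m + 1)) (hF m) (hW m) _ _)
    m (cls D hD)
  unfold QF.b at h2
  rwa [hQ.q_eq ((lim_iff hφ (hdet m)).2 hq₁), hQ.q_eq ((lim_iff hφ hD).2 hq₂),
    hQ.q_eq ((lim_mul_iff hφ (hdet m) hD).2 hq₁₂)] at h2

omit [Law X] in
/-- `|x_m - (a p^{2m} - b p^m + c)| ≤ φ` and `x_m / p^{2m} → y` give `y = a`. -/
theorem limit_eq (x : ℕ → ℝ) {a b c φ y : ℝ} (h : ∀ m : ℕ, |x m - (a * (p : ℝ) ^ (2 * m) - b * (p : ℝ) ^ m + c)| ≤ φ)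
    (hy : Tendsto (fun m : ℕ => x m / (p : ℝ) ^ (2 * m)) atTop (𝓝 y)) : y = a := by
  have hp : (1 : ℝ) < p := by exact_mod_cast (Fact.out : p.Prime).one_lt
  have hp0 : (0 : ℝ) < p := by linarith
  have h0 := FrobSeq.tendsto_zero (p := p) c (-b)
  have h1 := FrobSeq.tendsto_zero (p := p) φ 0
  have h2 : Tendsto (fun m : ℕ => x m / (p : ℝ) ^ (2 * m) - (a + (c + (p : ℝ) ^ m * (-b)) / (p : ℝ) ^ (2 * m))) atTop
      (𝓝 0) := by
    refine squeeze_zero_norm (fun m => ?_) h1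
    have hpm : (0 : ℝ) < (p : ℝ) ^ (2 * m) := pow_pos hp0 _
    have h3 : x m / (p : ℝ) ^ (2 * m) - (a + (c + (p : ℝ) ^ m * (-b)) / (p : ℝ) ^ (2 * m)) =
        (x m - (a * (p : ℝ) ^ (2 * m) - b * (p : ℝ) ^ m + c)) / (p : ℝ) ^ (2 * m) := by
      field_simp
      ring
    rw [h3, Real.norm_eq_abs, abs_div, abs_of_pos hpm, mul_zero, add_zero]
    exact div_le_div_of_nonneg_right (h m) hpm.le
  have h4 := (hy.sub h2).sub (h0.const_add a)
  simp only [sub_zero, add_zero] at h4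
  have h5 : Tendsto (fun _ : ℕ => (0 : ℝ)) atTop (𝓝 (y - a)) := by
    refine h4.congr fun m => ?_
    ring
  have h6 := tendsto_nhds_unique h5 tendsto_const_nhds
  linarith

/-- Uniqueness of `c_2`. -/
theorem uniq {φ : X.Modules → ℤ} (hφ : ∀ F G : X.Modules, Nonempty (F ≅ G) → φ F = φ G)
    (hQ : QF (val (X := X) φ)) (hX : Pi1.IsNormalScheme X)
    (ω : X.Modules) (hω : RefHull.IsRef1 ω) (c : X.Modules → ℝ) (χO : ℝ)
    (h1 : ∃ ψ : ℕ → ℝ, ∀ (r : ℕ) (E : X.Modules), Coh.IsCoh E → RefHull.IsReflexive E →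
      Module.finrank (X.presheaf.stalk (genericPoint X)) (E.presheaf.stalk (genericPoint X)) = r →
      ∀ (W : X.Modules), ExtPow.IsExtPow r E W → ∀ (qE qω qEω : ℝ),
        Tendsto (fun m : ℕ => (2 : ℝ) * (φ (RefPow.refPow (RefHull.ddual W) m) : ℝ) / ((m : ℝ) ^ 2)) atTop (𝓝 qE) →
        Tendsto (fun m : ℕ => (2 : ℝ) * (φ (RefPow.refPow ω m) : ℝ) / ((m : ℝ) ^ 2)) atTop (𝓝 qω) →
        Tendsto (fun m : ℕ => (2 : ℝ) * (φ (RefPow.refPow (RefPow.refTensor (RefHull.ddual W) ω) m) : ℝ) /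
          ((m : ℝ) ^ 2)) atTop (𝓝 qEω) →
        |(φ E : ℝ) - ((1 / 2 : ℝ) * (qE - (qEω - qE - qω) / 2) - c E + (r : ℝ) * χO)| ≤ ψ r)
    (h2 : ∀ (E : X.Modules), Coh.IsCoh E → RefHull.IsReflexive E →
      ∀ (G : ℕ → X.Modules), G 0 = E →
        (∀ m, Nonempty (G (m + 1) ≅ RefHull.ddual ((Scheme.Modules.pullback (FrobSch.frob X p)).obj (G m)))) →
        ∀ m, c (G m) = (p : ℝ) ^ (2 * m) * c E)
    (r : ℕ) (E : X.Modules) (hE : Coh.IsCoh E) (hEr : RefHull.IsReflexive E)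
    (hrk : Module.finrank (X.presheaf.stalk (genericPoint X)) (E.presheaf.stalk (genericPoint X)) = r)
    (W : X.Modules) (hW : ExtPow.IsExtPow r E W)
    (G : ℕ → X.Modules) (hG0 : G 0 = E)
    (hG : ∀ m, Nonempty (G (m + 1) ≅ RefHull.ddual ((Scheme.Modules.pullback (FrobSch.frob X p)).obj (G m)))) (a b : ℝ)
    (ha : Tendsto (fun m : ℕ => (2 : ℝ) * (φ (RefPow.refPow (RefHull.ddual W) m) : ℝ) / ((m : ℝ) ^ 2)) atTop (𝓝 a))
    (hb : Tendsto (fun m : ℕ => (φ (G m) : ℝ) / ((p : ℝ) ^ (2 * m))) atTop (𝓝 b)) :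
    c E = a / 2 - b := by
  obtain ⟨ψ, hψ⟩ := h1
  have hseq := seq_of p hX hE hEr hrk hG0 hG
  obtain ⟨V, hV⟩ := exists_ext (r := r) hseq.coh
  have hd : ∀ m, RefHull.IsRef1 (RefHull.ddual (V m)) := fun m =>
    isRef1_det hX (hseq.coh m) (hseq.refl m) (hseq.rank m) (hV m)
  have hD : RefHull.IsRef1 (RefHull.ddual W) := isRef1_det hX hE hEr hrk hW
  let d := cls (RefHull.ddual W) hD
  let w := cls ω hω
  have hdm : ∀ m, cls (RefHull.ddual (V m)) (hd m) = d ^ p ^ m := by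
    intro m
    obtain ⟨e⟩ := hseq.det_iso hX hV m
    obtain ⟨e'⟩ := Groth.Agent.Sga67.TensorOps.nonempty_iso_of_isExtPow (eqToIso hG0) (hV 0) hW
    obtain ⟨e''⟩ := nonempty_refPow_congr (K476.HomSh1.ddualIso e') (p ^ m)
    rw [← cls_refPow hD, cls_eq_cls_iff]
    exact ⟨e ≪≫ e''⟩
  refine (eq_sub_of_add_eq ?_ : c E = a / 2 - b)
  have hqd : hQ.q d = a := hQ.q_eq ((lim_iff hφ hD).2 ha)
  have key := limit_eq p (fun m => (φ (G m) : ℝ)) (a := a / 2 - c E) (b := hQ.b d w / 2) (c := r * χO) (φ := ψ r)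
    (y := b) (fun m => ?_) hb
  · rw [key]; ring
  · have h3 := hψ r (G m) (hseq.coh m) (hseq.refl m) (hseq.rank m) (V m) (hV m) (hQ.q (d ^ p ^ m)) (hQ.q w)
      (hQ.q (d ^ p ^ m * w)) (by rw [← lim_iff hφ (hd m), hdm m]; exact hQ.lim _)
      ((lim_iff hφ hω).1 (hQ.lim _)) (by rw [← lim_mul_iff hφ (hd m) hω, hdm m]; exact hQ.lim _)
    rw [h2 E hE hEr G hG0 hG m] at h3
    have h4 : (hQ.q (d ^ p ^ m * w) - hQ.q (d ^ p ^ m) - hQ.q w) / 2 = (p : ℝ) ^ m * hQ.b d w := by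
      have := hQ.b_pow_left d w (p ^ m)
      push_cast at this
      exact this
    have h5 : hQ.q (d ^ p ^ m) = (p : ℝ) ^ (2 * m) * a := by
      rw [hQ.q_pow, hqd]
      push_cast
      ring
    rw [h4, h5] at h3
    refine le_trans (le_of_eq ?_) h3
    congr 1
    ring

end K476.Consumer
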