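import Groth.Agent.RefCh.K939.SurfNum
import Groth.Agent.RefCh.K938.Descent

/-!
# Finite generation for the quadratic form of a very ample surface section

* `fg_data` : the Picard group of a proper surface modulo numerically trivial classes is finitely generated;
* `exists_form_fg` : the form of `K938.Descent.exists_form` together with the finite generation.
-/

set_option autoImplicit false
universe u
open CategoryTheory CategoryTheory.Limits AlgebraicGeometry Opposite TopologicalSpace

namespace K476.FormFG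

open Groth.Agent K938 K938.RefCl K938.Val RefFun K939 K424.VaRed Filter Topology

theorem fg_of_detect {P : Type*} [CommGroup P] (N : Subgroup P) {p : ℕ} (f : Fin p → (Additive P →+ ℤ))
    (h : ∀ a : P, (∀ j, f j (Additive.ofMul a) = 0) → a ∈ N) : Group.FG (P ⧸ N) := by
  let F : Additive P →ₗ[ℤ] (Fin p → ℤ) := LinearMap.pi fun j => (f j).toIntLinearMap
  obtain ⟨n, s, hs⟩ := Submodule.fg_iff_exists_fin_generating_family.1 (IsNoetherian.noetherian (LinearMap.range F))
  have hmem : ∀ i, s i ∈ LinearMap.range F := fun i => by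
    rw [← hs]; exact Submodule.subset_span ⟨i, rfl⟩
  choose g hg using hmem
  rw [Group.fg_iff]
  refine ⟨Set.range fun i => ((Additive.toMul (g i) : P) : P ⧸ N), ?_, Set.finite_range _⟩
  rw [eq_top_iff]
  rintro x -
  obtain ⟨a, rfl⟩ := QuotientGroup.mk_surjective x
  rw [Subgroup.mem_closure_range_iff_of_fintype]
  have ha : F (Additive.ofMul a) ∈ Submodule.span ℤ (Set.range s) := by
    rw [hs]; exact ⟨_, rfl⟩
  obtain ⟨c, hc⟩ := (Submodule.mem_span_range_iff_exists_fun ℤ).1 ha
  refine ⟨c, ?_⟩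
  have h1 : (∏ i, (Additive.toMul (g i)) ^ c i)⁻¹ * a ∈ N := by
    refine h _ fun j => ?_
    have h2 : F (Additive.ofMul ((∏ i, (Additive.toMul (g i)) ^ c i)⁻¹ * a)) = 0 := by
      have : Additive.ofMul ((∏ i, (Additive.toMul (g i)) ^ c i)⁻¹ * a) = - (∑ i, c i • g i) + Additive.ofMul a := by
        rfl
      rw [this, map_add, map_neg, map_sum, ← hc]
      simp only [map_smul, hg]
      exact neg_add_cancel _
    exact congrFun h2 j
  have h3 := (QuotientGroup.eq.2 h1).symm
  rw [h3, ← QuotientGroup.mk'_apply, map_prod]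
  exact Finset.prod_congr rfl fun j _ => map_zpow _ _ _

theorem fg_data (k : Type u) [Field k] (Y : Scheme.{u}) [Y.Over (Spec (CommRingCat.of k))]
    [IsProper (Y ↘ Spec (CommRingCat.of k))] (hd : topologicalKrullDim Y ≤ (2 : ℕ)) {C : Type*} [CommGroup C] {r : ℕ}
    (S : K424.AbsSurf.Data (Groth.Agent.Grpsch.PicGrp.Pic Y) C r) (hS : S.χ = K464.Base.chi k Y) :
    Group.FG (Groth.Agent.Grpsch.PicGrp.Pic Y ⧸ S.numTriv) := by
  obtain ⟨p, f, hf⟩ := SurfNum.exists_detect (k := k) (Y := Y) 2 hd
  refine fg_of_detect _ f fun a ha b => ?_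
  have h := hf a ha b
  change K424.AbsSurf.dot S.χ a b = 0
  rw [hS]
  exact h

/-- The quadratic form of a very ample surface section, with finite generation. -/
theorem exists_form_fg (k : Type u) [Field k] (X : Scheme.{u}) [X.Over (Spec (CommRingCat.of k))]
    [IsProper (X ↘ Spec (CommRingCat.of k))] [IsIntegral X] [IsLocallyNoetherian X] [Law X]
    (hnorm : Pi1.IsNormalScheme X) {s : ℕ}
    (hdim : topologicalKrullDim X = (s + 2 : ℕ)) (P : Fin s → X.Modules) (hP : ∀ i, VAInv (P i)) :
    ∃ (A B : Type (u + 1)) (_ : CommGroup A) (_ : CommGroup B) (r : ℕ) (S : K424.AbsSurf.Data A B r)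
      (θ : Ref1Set X →* B), (∀ c, val (FGA.intNum k X (s + 2) P) c = S.Φ (θ c)) ∧ Group.FG (A ⧸ S.numTriv) := by
  choose L hL hgen hPL using hP
  obtain ⟨K, _, _, Z, _, j, i1, i2, i3, i4, i5, i6, i7, i8, -⟩ :=
    GenHypIter.exists_surface s 2 k X hnorm hdim L P hL (fun i => VAInv.isInvertible ⟨L i, hL i, hgen i, hPL i⟩)
      hPL hgen
  have : IsLocallyNoetherian Z := LocallyOfFiniteType.isLocallyNoetherian (Z ↘ Spec (CommRingCat.of K))
  let _ : Law Z := law i2
  obtain ⟨D, S, hS, hχ⟩ := Inst.exists_inst (k := K) i2 (by rw [i4]; rfl)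
  refine ⟨_, _, inferInstance, inferInstance, D.r, S, Descent.pullH j, fun c => ?_, ?_⟩
  · obtain ⟨F, hF, rfl⟩ := exists_eq_cls c
    rw [hS, Descent.pullH_cls, val_cls Inst.euler_iso,
      val_cls (fun F G h => Fga.PicMon.intNum_iso k X (s + 2) P h.some), i8 F hF.1 (s + 2) 2 le_rfl le_rfl]
    exact Fga.IntAdd.eulerCharLE_eq K Z 2 (by rw [i4]) _
  · exact fg_data K D.Y D.dim.le S hχ

end K476.FormFG
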