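import Mathlib

/-!
# Coefficients of Hilbert polynomials from iterated differences
-/

set_option autoImplicit false

namespace K476.HilbAlg

open Finset

theorem choose_step (m i : ℕ) : (Nat.choose (m + 1 + (i + 1)) (i + 1) : ℤ) =
    Nat.choose (m + (i + 1)) (i + 1) + Nat.choose (m + 1 + i) i := by
  have h1 : m + 1 + (i + 1) = (m + (i + 1)) + 1 := by ring
  have h2 : m + 1 + i = m + (i + 1) := by ring
  rw [h1, h2, Nat.choose_succ_succ]
  push_cast
  ring

theorem expand (n : ℕ) (f : ℕ → ℕ → ℤ) (hstep : ∀ j m, f j (m + 1) = f j m + f (j + 1) (m + 1))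
    (hz : ∀ m, f (n + 1) m = 0) (t : ℕ) : ∀ j, j + t = n → ∀ m, f j m =
      ∑ i ∈ range (t + 1), (f (j + i) 0 - f (j + (i + 1)) 0) * (Nat.choose (m + i) i : ℤ) := by
  induction t with
  | zero =>
    rintro j rfl m
    have h : ∀ m, f j m = f j 0 := by
      intro m
      induction m with
      | zero => rfl
      | succ m ih =>
        have h1 := hz (m + 1)
        rw [add_zero] at h1
        rw [hstep, h1, add_zero, ih]
    have h0 := hz 0
    rw [add_zero] at h0
    rw [h m]
    simp [h0]
  | succ t ih =>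
    intro j hj m
    induction m with
    | zero =>
      have h1 : ∀ i ∈ range (t + 1 + 1), (f (j + i) 0 - f (j + (i + 1)) 0) * (Nat.choose (0 + i) i : ℤ) =
          f (j + i) 0 - f (j + (i + 1)) 0 := by
        intro i _
        rw [zero_add, Nat.choose_self, Nat.cast_one, mul_one]
      rw [sum_congr rfl h1, sum_range_sub' (fun i => f (j + i) 0)]
      have h2 : j + (t + 1 + 1) = n + 1 := by omega
      rw [h2, hz, sub_zero, add_zero]
    | succ m ihm =>
      have h1 := ih (j + 1) (by omega) (m + 1)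
      rw [hstep, ihm, h1, sum_range_succ' _ (t + 1), sum_range_succ' _ (t + 1)]
      have h2 : ∀ i ∈ range (t + 1), (f (j + (i + 1)) 0 - f (j + (i + 1 + 1)) 0) *
          (Nat.choose (m + 1 + (i + 1)) (i + 1) : ℤ) =
          (f (j + (i + 1)) 0 - f (j + (i + 1 + 1)) 0) * (Nat.choose (m + (i + 1)) (i + 1) : ℤ) +
          (f (j + 1 + i) 0 - f (j + 1 + (i + 1)) 0) * (Nat.choose (m + 1 + i) i : ℤ) := by
        intro i _
        rw [choose_step]
        have e1 : j + 1 + i = j + (i + 1) := by ring
        have e2 : j + 1 + (i + 1) = j + (i + 1 + 1) := by ring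
        rw [e1, e2]
        ring
      rw [sum_congr rfl h2, sum_add_distrib]
      simp only [add_zero, Nat.choose_zero_right, Nat.cast_one, mul_one]
      ring

theorem coeff_eq_zero (n : ℕ) : ∀ (M : ℕ) (c : ℕ → ℤ),
    (∀ m, M ≤ m → ∑ k ∈ range (n + 1), c k * (Nat.choose (m + k) k : ℤ) = 0) → ∀ k, k ≤ n → c k = 0 := by
  induction n with
  | zero =>
    intro M c h k hk
    have h1 := h M le_rfl
    obtain rfl : k = 0 := by omega
    simpa using h1
  | succ n ih =>
    intro M c h
    have hs : ∀ k, k ≤ n → c (k + 1) = 0 := by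
      refine ih (M + 1) (fun k => c (k + 1)) fun m hm => ?_
      obtain ⟨m, rfl⟩ : ∃ m', m = m' + 1 := ⟨m - 1, by omega⟩
      have h1 := h m (by omega)
      have h2 := h (m + 1) (by omega)
      rw [sum_range_succ'] at h1 h2
      have h3 : ∀ k ∈ range (n + 1), c (k + 1) * (Nat.choose (m + 1 + (k + 1)) (k + 1) : ℤ) =
          c (k + 1) * (Nat.choose (m + (k + 1)) (k + 1) : ℤ) + c (k + 1) * (Nat.choose (m + 1 + k) k : ℤ) := by
        intro k _
        rw [choose_step]
        ring
      rw [sum_congr rfl h3, sum_add_distrib] at h2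
      simp only [add_zero, Nat.choose_zero_right, Nat.cast_one, mul_one] at h1 h2
      linarith
    intro k hk
    cases k with
    | zero =>
      have h1 := h M le_rfl
      rw [sum_range_succ', sum_eq_zero (fun k hk => by rw [hs k (by simpa [Nat.lt_succ_iff] using hk), zero_mul])] at h1
      simpa using h1
    | succ k => exact hs k (by omega)

/-- The coefficients of the Hilbert polynomial in the basis `C(m + k, k)`. -/
theorem coeff_eq (n : ℕ) (f : ℕ → ℕ → ℤ) (hstep : ∀ j m, f j (m + 1) = f j m + f (j + 1) (m + 1))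
    (hz : ∀ m, f (n + 1) m = 0) (b : ℕ → ℤ)
    (hb : ∀ m, f 0 m = ∑ k ∈ range (n + 1), b k * (Nat.choose (m + k) k : ℤ)) (k : ℕ) (hk : k ≤ n) :
    b k = f k 0 - f (k + 1) 0 := by
  have h1 := coeff_eq_zero n 0 (fun k => b k - (f k 0 - f (k + 1) 0)) (fun m _ => by
    have h2 := expand n f hstep hz n 0 (zero_add n) m
    rw [hb m] at h2
    have h3 : ∀ i ∈ range (n + 1), (f (0 + i) 0 - f (0 + (i + 1)) 0) * (Nat.choose (m + i) i : ℤ) =
        (f i 0 - f (i + 1) 0) * (Nat.choose (m + i) i : ℤ) := by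
      intro i _
      rw [zero_add, zero_add]
    rw [sum_congr rfl h3, ← sub_eq_zero, ← sum_sub_distrib] at h2
    rw [← h2]
    exact sum_congr rfl fun i _ => sub_mul _ _ _) k hk
  exact sub_eq_zero.1 h1

/-- The same with the coefficients in the reverse order. -/
theorem coeff_eq' (n : ℕ) (f : ℕ → ℕ → ℤ) (hstep : ∀ j m, f j (m + 1) = f j m + f (j + 1) (m + 1))
    (hz : ∀ m, f (n + 1) m = 0) (a : ℕ → ℤ)
    (ha : ∀ m, f 0 m = ∑ i ∈ range (n + 1), a i * (Nat.choose (m + n - i) (n - i) : ℤ)) (i : ℕ) (hi : i ≤ n) :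
    a i = f (n - i) 0 - f (n - i + 1) 0 := by
  have h1 := coeff_eq n f hstep hz (fun k => a (n - k)) (fun m => by
    rw [ha m, ← sum_range_reflect]
    refine sum_congr rfl fun k hk => ?_
    have hk' : k ≤ n := by simpa [Nat.lt_succ_iff] using hk
    have e1 : n + 1 - 1 - k = n - k := by omega
    have e2 : n - (n - k) = k := by omega
    have e3 : m + n - (n - k) = m + k := by omega
    rw [e1, e2, e3]) (n - i) (Nat.sub_le n i)
  have e : n - (n - i) = i := by omega
  simpa only [e] using h1

end K476.HilbAlg
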