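import Groth.Agent.RefCh.K476.AdjInd
import Groth.Agent.RefCh.K476.HilbAlg
import Groth.Agent.RefCh.K939.Abs2
import Groth.Agent.RefCh.K938.Rows

/-!
# Intersection numbers of a normal projective scheme with a very ample module and the canonical module

* `intNum_rank`: `∫ c₁(H)^n · [E] = rk(E) ∫ c₁(H)^n`;
* `adj`: `∫ c₁(H)^{n-1} · [O] + ∫ c₁(H)^{n-1} · [H^{n-1} ⊗ ω] = 0`;
* `two_mul`: `2 ∫ c₁(H)^{n-1} · [O] = -(K · H^{n-1} + (n - 1) H^n)`.
-/

set_option autoImplicit false
universe u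

open CategoryTheory CategoryTheory.Limits AlgebraicGeometry Opposite TopologicalSpace

namespace K476.HilbGeo

open Groth.Agent Groth.Agent.VarietyB

section Rank

variable (k : Type u) [Field k] {X : Scheme.{u}} [X.Over (Spec (CommRingCat.of k))]
  [IsProper (X ↘ Spec (CommRingCat.of k))] [IsIntegral X]

theorem intNum_rank (d : ℕ) (hd : topologicalKrullDim X ≤ d) {n : ℕ} (hn : topologicalKrullDim X ≤ n)
    (M : Fin n → X.Modules) (hM : ∀ i, PicF.IsInvertible (M i)) (F : X.Modules) (hF : Coh.IsCoh F) (r : ℕ)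
    (hrk : Module.finrank (X.presheaf.stalk (genericPoint X)) (F.presheaf.stalk (genericPoint X)) = r) :
    FGA.intNum k X d M F = r * FGA.intNum k X d M (Coh.structureModule X) := by
  have h1 := (Fga.MultFinal.intNum_eq k X d hd (𝟙 X) (Category.id_comp _) M hM hn F hF
    (fun x _ => ⟨x, rfl⟩)).2
  have h2 : (Module.length (X.presheaf.stalk ((𝟙 X : X ⟶ X) (genericPoint X)))
      (F.presheaf.stalk ((𝟙 X : X ⟶ X) (genericPoint X)))).toNat = r := by
    change (Module.length (X.presheaf.stalk (genericPoint X)) (F.presheaf.stalk (genericPoint X))).toNat = r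
    have hfin : Module.Finite (X.presheaf.stalk (genericPoint X)) (F.presheaf.stalk (genericPoint X)) :=
      Groth.Agent.CycB.StalkLoc.finite_stalk F hF _
    have h3 := Module.length_eq_finrank X.functionField (F.presheaf.stalk (genericPoint X))
    have h4 := congrArg ENat.toNat h3
    rw [ENat.toNat_natCast] at h4
    exact h4.trans hrk
  rw [h1, h2]
  congr 1
  exact Fga.PicMon.intNum_congr k X d _ _ (fun i => ⟨(Scheme.Modules.pullbackId X).app _⟩) _

end Rank

section Adj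

variable (k : Type u) [Field k] [IsAlgClosed k] {X : Scheme.{u}} [X.Over (Spec (CommRingCat.of k))]
  [IsProper (X ↘ Spec (CommRingCat.of k))] [IsIntegral X]

omit [IsAlgClosed k] [IsProper (X ↘ Spec (CommRingCat.of k))] in
theorem smooth_rel [LocallyOfFiniteType (X ↘ Spec (CommRingCat.of k))] (n : ℕ) (hdim : topologicalKrullDim X = n)
    (U : X.Opens) (hU : Smooth (U.ι ≫ (X ↘ Spec (CommRingCat.of k)))) :
    SmoothOfRelativeDimension n (U.ι ≫ (X ↘ Spec (CommRingCat.of k))) := by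
  refine Ega2.SmoothBdry.smoothOfRelativeDimension_of_localDim _ n fun z => ?_
  rw [DimTop.localDim_eq_of_isOpenEmbedding U.ι.isOpenEmbedding z, DimSch.localDim_eq_of_irreducible k,
    ← DimSch.topologicalKrullDim_eq_trd k, hdim]

omit [IsAlgClosed k] [IsProper (X ↘ Spec (CommRingCat.of k))] in
theorem trd_lt [LocallyOfFiniteType (X ↘ Spec (CommRingCat.of k))] (s : ℕ)
    (hdim : topologicalKrullDim X = ((s + 2 : ℕ) : WithBot ℕ∞)) (x : X)
    (hx : (2 : WithBot ℕ∞) ≤ ringKrullDim (X.presheaf.stalk x)) : DimSch.trd k X x < s + 1 := by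
  have h1 := DimSch.localDim_eq k x
  rw [DimSch.localDim_eq_of_irreducible k, ← DimSch.topologicalKrullDim_eq_trd k, hdim] at h1
  have h2 : ((2 + DimSch.trd k X x : ℕ) : WithBot ℕ∞) ≤ ((s + 2 : ℕ) : WithBot ℕ∞) := by
    rw [h1]
    push_cast
    exact add_le_add hx le_rfl
  have h3 : 2 + DimSch.trd k X x ≤ s + 2 := by exact_mod_cast h2
  omega

/-- The adjunction formula for intersection numbers. -/
theorem adj (s : ℕ) (hdim : topologicalKrullDim X = ((s + 2 : ℕ) : WithBot ℕ∞)) {H H' : X.Modules}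
    (hHva : ∃ (N : ℕ) (ι : X ⟶ CohB1.ProjSpace N k), IsClosedImmersion ι ∧
      ι ≫ CohB1.ProjSpace.toSpec N k = X ↘ Spec (CommRingCat.of k) ∧
      Nonempty (H ≅ (Scheme.Modules.pullback ι).obj (Twist.twistProjSpace N k 1)))
    (hHH' : Nonempty (CohB1.tensorMod H H' ≅ Coh.structureModule X))
    {ω : X.Modules} (hω : Coh.IsCoh ω) (U : X.Opens)
    (hUsm : Smooth (U.ι ≫ (X ↘ Spec (CommRingCat.of k))))
    (hUbig : ∀ x : X, x ∉ U → (2 : WithBot ℕ∞) ≤ ringKrullDim (X.presheaf.stalk x))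
    (hωU : ExtPow.IsExtPow (s + 2) (Omega.sheaf (U.ι ≫ (X ↘ Spec (CommRingCat.of k)))) (ω.restrict U.ι)) :
    FGA.intNum k X (s + 2) (fun _ : Fin (s + 1) => H') (Coh.structureModule X) +
      FGA.intNum k X (s + 2) (fun _ : Fin (s + 1) => H') (CohB1.tensorMod (CohB1.tensorPow H (s + 1)) ω) = 0 := by
  obtain ⟨N, ι, hι, -, ⟨e⟩⟩ := hHva
  have hH' : Nonempty (CohB1.tensorMod H' ((Scheme.Modules.pullback ι).obj (Twist.twistProjSpace N k 1)) ≅
      Coh.structureModule X) :=
    ⟨Ega2.Tens.swap _ _ ≪≫ Ega2.Tens.mapTIso e.symm (Iso.refl H') ≪≫ hHH'.some⟩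
  have h1 := K476.AdjInd.claim k N (s + 1) ι (s + 2) hdim.le H' hH' U
    (fun x hx => trd_lt k s hdim x (hUbig x hx)) (smooth_rel k (s + 2) hdim U hUsm) ω hω hωU
  rw [← h1]
  congr 1
  refine Fga.PicMon.intNum_iso k X _ _ (Nonempty.some ((Fga.PicMon.mc_eq_iff _ _).1 ?_))
  rw [Fga.PicMon.mc_tensor, Fga.PicMon.mc_tensor, Fga.PicMon.mc_tensorPow, Fga.PicMon.mc_tensorPow,
    Fga.PicMon.mc_eq e]

open K939.Abs

omit [IsAlgClosed k] [IsProper (X ↘ Spec (CommRingCat.of k))] in
theorem pow_sub {δ : X → ℤ} (hδ : Cyc.IsSetup X δ) {F : X.Modules → ℤ} (hF : IsAdd2 F) {H : X.Modules}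
    (hH : PicF.IsInvertible H) (hHc : ∀ M : X.Modules, PicF.IsInvertible M → Coh.IsCoh M) (m : ℕ) :
    F (CohB1.tensorPow H m) - F (Coh.structureModule X) = m * (F H - F (Coh.structureModule X)) := by
  induction m with
  | zero =>
    have h : CohB1.tensorPow H 0 = Coh.structureModule X := rfl
    rw [h, sub_self, Nat.cast_zero, zero_mul]
  | succ m ih =>
    have hp := Groth.Agent.Fdesc.LocGen.isInvertible_tensorPow hH m
    have h1 := tensor_add hδ hF (hHc _ hp) (hHc _ hH) (inv1_of_isInvertible hp) (inv1_of_isInvertible hH)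
    have h : CohB1.tensorPow H (m + 1) = CohB1.tensorMod (CohB1.tensorPow H m) H := rfl
    rw [h]
    push_cast
    linarith

/-- `2 ∫ c₁(H)^{n-1} · [O] = -(K · H^{n-1} + (n - 1) H^n)`. -/
theorem two_mul (hnorm : Pi1.IsNormalScheme X) (s : ℕ) (hdim : topologicalKrullDim X = ((s + 2 : ℕ) : WithBot ℕ∞))
    {H H' : X.Modules}
    (hHva : ∃ (N : ℕ) (ι : X ⟶ CohB1.ProjSpace N k), IsClosedImmersion ι ∧
      ι ≫ CohB1.ProjSpace.toSpec N k = X ↘ Spec (CommRingCat.of k) ∧
      Nonempty (H ≅ (Scheme.Modules.pullback ι).obj (Twist.twistProjSpace N k 1)))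
    (hHH' : Nonempty (CohB1.tensorMod H H' ≅ Coh.structureModule X))
    {ω : X.Modules} (hω : RefHull.IsRef1 ω) (U : X.Opens)
    (hUsm : Smooth (U.ι ≫ (X ↘ Spec (CommRingCat.of k))))
    (hUbig : ∀ x : X, x ∉ U → (2 : WithBot ℕ∞) ≤ ringKrullDim (X.presheaf.stalk x))
    (hωU : ExtPow.IsExtPow (s + 2) (Omega.sheaf (U.ι ≫ (X ↘ Spec (CommRingCat.of k)))) (ω.restrict U.ι)) :
    2 * FGA.intNum k X (s + 2) (fun _ : Fin (s + 1) => H') (Coh.structureModule X) =
      -((FGA.intNum k X (s + 2) (fun _ : Fin (s + 1) => H') (Coh.structureModule X) -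
        FGA.intNum k X (s + 2) (fun _ : Fin (s + 1) => H') (RefHull.dual ω)) +
        ((s + 1 : ℕ) : ℤ) * FGA.intNum k X (s + 2) (fun _ : Fin (s + 2) => H') (Coh.structureModule X)) := by
  have : IsLocallyNoetherian X := LocallyOfFiniteType.isLocallyNoetherian (X ↘ Spec (CommRingCat.of k))
  obtain ⟨δ, hδ⟩ := exists_isSetup (X ↘ Spec (CommRingCat.of k))
  have hH' : PicF.IsInvertible H' := K939.Op2.isInvertible_of_tensor hHH'.some
  have hH : PicF.IsInvertible H := K939.Op2.isInvertible_of_tensor (Ega2.Tens.swap _ _ ≪≫ hHH'.some)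
  have hcoh : ∀ M : X.Modules, PicF.IsInvertible M → Coh.IsCoh M := fun M hM =>
    Sga67.CohBasic.isCoh_of_iso (Ega2.Tens.lunit M)
      (Groth.Agent.Fga.TwistCoh.isCoh_tensor K939.Ref1.isCoh_structureModule hM)
  have hadd : IsAdd2 (fun G : X.Modules => FGA.intNum k X (s + 2) (fun _ : Fin (s + 1) => H') G) :=
    K938.IntF.isAdd2_intNum k (r := s + 1) hdim (fun _ => H') (fun _ => hH')
  have h0 := adj k s hdim hHva hHH' hω.1 U hUsm hUbig hωU
  have hp := Groth.Agent.Fdesc.LocGen.isInvertible_tensorPow hH (s + 1)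
  have hω1 := inv1_of_ref1 hδ hnorm hω
  have hA := tensor_add hδ hadd (hcoh _ hp) hω.1 (inv1_of_isInvertible hp) hω1
  have hB := pow_sub hδ hadd hH hcoh (s + 1)
  have hD := dual_add hδ hnorm hadd hω.1 hω1
  have hC : FGA.intNum k X (s + 2) (fun _ : Fin (s + 1) => H') H -
      FGA.intNum k X (s + 2) (fun _ : Fin (s + 1) => H') (Coh.structureModule X) =
      FGA.intNum k X (s + 2) (fun _ : Fin (s + 2) => H') (Coh.structureModule X) := by
    have h1 : (fun _ : Fin (s + 2) => H') = (Fin.cons H' (fun _ : Fin (s + 1) => H') : Fin (s + 1 + 1) → X.Modules) :=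
      (Fin.cons_self_tail (fun _ : Fin (s + 1 + 1) => H')).symm
    have h2 := Fga.PicMon.intNum_cons k X (s + 2) H' (fun _ : Fin (s + 1) => H') H
    rw [← h1, Fga.PicMon.intNum_iso k X (s + 2) _ (Ega2.Tens.swap H' H ≪≫ hHH'.some)] at h2
    have h3 := intNum_rank k (s + 2) hdim.le (n := s + 2) hdim.le (fun _ => H') (fun _ => hH') H (hcoh H hH) 1 ?_
    · rw [← h2, h3, Nat.cast_one, one_mul]
    · obtain ⟨e⟩ := inv1_of_isInvertible hH (genericPoint X) (by
        have h4 : ringKrullDim (X.presheaf.stalk (genericPoint X)) = 0 :=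
          ringKrullDim_eq_zero_of_field X.functionField
        rw [h4]
        exact zero_le_one)
      rw [e.finrank_eq, Module.finrank_self]
  push_cast at hB ⊢
  linear_combination h0 - hA - hB - hD - ((s : ℤ) + 1) * hC

end Adj

end K476.HilbGeo
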