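import Groth.Agent.RefCh.K939.GenHypCut
import Groth.Agent.Fga.MultFinal
import Groth.Agent.Fga.IntAdd
import Groth.Agent.Fga.ChiBasic

/-!
# Cutting intersection symbols by the zero scheme of a section

* `intNum_cut`: `∫ c₁(N) c₁(..) · [F] = ∫_Z c₁(..) · [F|_Z]` for `Z` the zero scheme of a section of `N`, if the kernel of
  the multiplication by the section does not contribute;
* `not_mem_support_kernel_mulS`: the kernel vanishes at the points where `F` is torsion-free and `s` is not zero.
-/

set_option autoImplicit false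
universe u

open CategoryTheory CategoryTheory.Limits AlgebraicGeometry Opposite TopologicalSpace

namespace K476.HypCut

open Groth.Agent Groth.Agent.Fga.RegSec Groth.Agent.Fga.ChiBasic Groth.Agent.Fdesc.LocGen Groth.Agent.Ega2

section Kernel

variable {X : Scheme.{u}} {N : X.Modules} (s : Coh.structureModule X ⟶ N) (F : X.Modules)

theorem not_mem_support_kernel_of_injective {M P : X.Modules} (φ : M ⟶ P) {x : X}
    (h : Function.Injective ((Groth.Agent.CohqB.DevSupport.stalkF X x).map φ)) :
    x ∉ CohB1.support (kernel φ) := by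
  rw [Groth.Agent.CohqB.DevSupport.not_mem_support_iff_isZero]
  have hm : Mono ((Groth.Agent.CohqB.DevSupport.stalkF X x).map φ) := (AddCommGrpCat.mono_iff_injective _).mpr h
  have h1 : (Groth.Agent.CohqB.DevSupport.stalkF X x).map (kernel.ι φ) = 0 := by
    rw [← cancel_mono ((Groth.Agent.CohqB.DevSupport.stalkF X x).map φ), ← Functor.map_comp, kernel.condition,
      Functor.map_zero, zero_comp]
  rw [IsZero.iff_id_eq_zero, ← cancel_mono ((Groth.Agent.CohqB.DevSupport.stalkF X x).map (kernel.ι φ)), h1,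
    comp_zero, comp_zero]

/-- The kernel of the multiplication by a section vanishes where `F` is torsion-free over a domain and the section
generates at a generization. -/
theorem not_mem_support_kernel_mulS (hN : PicF.IsInvertible N) {x : X} (hd : IsDomain (X.presheaf.stalk x))
    (hF : Module.IsTorsionFree (X.presheaf.stalk x) (F.presheaf.stalk x)) {y : X} (hyx : y ⤳ x)
    (hy : y ∈ CohB1.genLocus N s) : x ∉ CohB1.support (kernel (mulS s F)) := by
  obtain ⟨U, e, hxU, he⟩ := (isInvertible_iff N).mp hN x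
  obtain ⟨a, ha⟩ := he.exists_eq (sec s U)
  have hyU : y ∈ U := hyx.mem_open U.isOpen hxU
  have ha0 : X.presheaf.germ U x hxU a ≠ 0 := by
    intro h0
    have h1 : y ∈ X.basicOpen a := by
      rw [← genLocus_inf_eq s he ha]
      exact ⟨hy, hyU⟩
    obtain ⟨V, hxV, i, i', hV⟩ := X.presheaf.germ_eq x hxU hxU a 0 (by rw [h0, map_zero])
    have hyV : y ∈ V := hyx.mem_open V.isOpen hxV
    have h2 : X.presheaf.germ U y hyU a = 0 := by
      have h3 : X.presheaf.germ V y hyV (X.presheaf.map i.op a) = X.presheaf.germ U y hyU a :=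
        TopCat.Presheaf.germ_res_apply _ _ _ _ _
      rw [← h3, hV, map_zero, map_zero]
    rw [Scheme.mem_basicOpen _ _ _ hyU, h2] at h1
    exact not_isUnit_zero h1
  refine not_mem_support_kernel_of_injective _ ?_
  rw [injective_iff_map_eq_zero]
  intro t ht
  obtain ⟨V, hxV, m, rfl⟩ := TopCat.Presheaf.exists_germ_eq F.presheaf t
  rw [stalkF_map_germ, mulS_app] at ht
  obtain ⟨W, hW, hxW, hres⟩ := exists_res_eq_zero (CohB1.tensorMod N F) hxV _ ht
  have hWU : W ⊓ U ≤ U := inf_le_right
  have hWV : W ⊓ U ≤ V := inf_le_left.trans hW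
  have h1 : tmul (res N hWU e) (ores hWU a • res F hWV m) = 0 := by
    have h2 := congrArg (res (CohB1.tensorMod N F) (inf_le_left : W ⊓ U ≤ W)) hres
    rw [map_zero, res_tmul, res_tmul, res_sec, res_sec, ← res_sec s hWU, ha, res_smul, smul_tmul, ← tmul_smul,
      res_res] at h2
    exact h2
  have h2 : ores hWU a • res F hWV m = 0 := by
    refine (tmul_left_bijective F he hWU).1 ?_
    beta_reduce
    rw [h1]
    exact (TensGen.tmul_zero _).symm
  have hxWU : x ∈ W ⊓ U := ⟨hxW, hxU⟩
  have h3 := congrArg (F.presheaf.germ (W ⊓ U) x hxWU) h2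
  rw [map_zero, Fdesc.QCohStalk.germ_smul', germ_res'] at h3
  have h4 : X.presheaf.germ (W ⊓ U) x hxWU (ores hWU a) = X.presheaf.germ U x hxU a :=
    TopCat.Presheaf.germ_res_apply _ _ _ _ _
  rw [h4] at h3
  have h5 : (F.presheaf.germ V x hxV m : F.presheaf.stalk x) = 0 := (smul_eq_zero_iff_right ha0).mp h3
  exact h5

end Kernel

section Cut

variable (k : Type u) [Field k] (X Z : Scheme.{u}) [X.Over (Spec (CommRingCat.of k))]
  [Z.Over (Spec (CommRingCat.of k))] [IsProper (X ↘ Spec (CommRingCat.of k))]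

/-- Cutting by the zero scheme of a section. -/
theorem intNum_cut (d : ℕ) (hd : topologicalKrullDim X ≤ d) {r : ℕ} (M : Fin r → X.Modules)
    (hM : ∀ i, PicF.IsInvertible (M i)) {N P : X.Modules} (hN : PicF.IsInvertible N) (hP : PicF.IsInvertible P)
    (hPN : Nonempty (CohB1.tensorMod P N ≅ Coh.structureModule X)) (s : Coh.structureModule X ⟶ N)
    (i : Z ⟶ X) [IsClosedImmersion i] (hi : i ≫ (X ↘ Spec (CommRingCat.of k)) = Z ↘ Spec (CommRingCat.of k))
    (hker : i.ker = PicF2.zeroScheme N s) (F : X.Modules) (hF : Coh.IsCoh F)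
    (hK : FGA.intNum k X d M (CohB1.tensorMod P (kernel (mulS s F))) = 0) :
    FGA.intNum k X d (Fin.cons P M : Fin (r + 1) → X.Modules) F =
      FGA.intNum k Z d (fun j => (Scheme.Modules.pullback i).obj (M j)) ((Scheme.Modules.pullback i).obj F) := by
  have : IsLocallyNoetherian X := LocallyOfFiniteType.isLocallyNoetherian (X ↘ Spec (CommRingCat.of k))
  have hadd := Fga.MultFinal.isAdd_intNum k X d hd M hM
  have hadd' := Fga.IntAdd.isAdd_tensor X hadd hP
  have hNF : Coh.IsCoh (CohB1.tensorMod N F) :=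
    Sga67.CohBasic.isCoh_of_iso (Tens.swap F N) (Groth.Agent.Fga.TwistCoh.isCoh_tensor hF hN)
  have h1 := chi_map hadd' (mulS s F) hF hNF
  obtain ⟨e1⟩ := K939.GenHypCut.nonempty_iso hN s i hker F hP hPN
  have h2 : FGA.intNum k X d M (CohB1.tensorMod P (cokernel (mulS s F))) =
      FGA.intNum k Z d (fun j => (Scheme.Modules.pullback i).obj (M j)) ((Scheme.Modules.pullback i).obj F) := by
    rw [Fga.PicMon.intNum_iso k X d M e1, Fga.MultInt.intNum_push k i hi d M hM]
  have h3 : FGA.intNum k X d M (CohB1.tensorMod P (CohB1.tensorMod N F)) = FGA.intNum k X d M F := by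
    obtain ⟨θ⟩ := hPN
    exact Fga.PicMon.intNum_iso k X d M ((Tens.assoc P N F).symm ≪≫ Tens.mapTIso θ (Iso.refl F) ≪≫ Tens.lunit F)
  rw [Fga.PicMon.intNum_cons, ← h2]
  have h4 : FGA.intNum k X d M (CohB1.tensorMod P F) + FGA.intNum k X d M (CohB1.tensorMod P (cokernel (mulS s F))) =
      FGA.intNum k X d M (CohB1.tensorMod P (CohB1.tensorMod N F)) +
        FGA.intNum k X d M (CohB1.tensorMod P (kernel (mulS s F))) := h1
  rw [h3, hK] at h4
  linarith

end Cut

end K476.HypCut
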