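import Groth.Agent.RefCh.K938.Val
import Mathlib.Analysis.SpecificLimits.Basic

/-!
# The quadratic form of a function with quadratic limits

* `Lim Φ c q`: `2 Φ(c^m) / m² → q`;
* `QF Φ`: all the limits exist and satisfy the cube identity; `QF.q`, the pairing `QF.b`, its bilinearity;
* `QF.root_zero`: infinitely `p`-divisible classes pair to zero, when the pairing has bounded denominators;
* `lim_iff`, `qf_of`: the case of the class group of rank one reflexive modules.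
-/

set_option autoImplicit false
universe u

open CategoryTheory CategoryTheory.Limits AlgebraicGeometry Filter Topology

namespace K476.QForm

section Group

variable {C : Type*} [CommGroup C] {Φ : C → ℤ}

/-- `q` is the quadratic limit of `Φ` along the powers of `c`. -/
def Lim (Φ : C → ℤ) (c : C) (q : ℝ) : Prop :=
  Tendsto (fun m : ℕ => (2 : ℝ) * (Φ (c ^ m) : ℝ) / ((m : ℝ) ^ 2)) atTop (𝓝 q)

theorem Lim.unique {c : C} {q q' : ℝ} (h : Lim Φ c q) (h' : Lim Φ c q') : q = q' :=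
  tendsto_nhds_unique h h'

theorem Lim.pow {c : C} {q : ℝ} (h : Lim Φ c q) (n : ℕ) : Lim Φ (c ^ n) ((n : ℝ) ^ 2 * q) := by
  rcases Nat.eq_zero_or_pos n with rfl | hn
  · simp only [Nat.cast_zero, ne_eq, OfNat.ofNat_ne_zero, not_false_eq_true, zero_pow, zero_mul, pow_zero]
    unfold Lim
    have h0 : Tendsto (fun m : ℕ => ((m : ℝ))⁻¹) atTop (𝓝 0) := tendsto_inv_atTop_nhds_zero_nat
    have h1 := (h0.pow 2).const_mul ((2 : ℝ) * (Φ 1 : ℝ))
    simp only [ne_eq, OfNat.ofNat_ne_zero, not_false_eq_true, zero_pow, mul_zero] at h1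
    refine h1.congr fun m => ?_
    rw [one_pow, inv_pow, div_eq_mul_inv]
  · unfold Lim at h ⊢
    have h1 : Tendsto (fun m : ℕ => n * m) atTop atTop :=
      Filter.tendsto_atTop_mono (fun m => Nat.le_mul_of_pos_left m hn) tendsto_id
    refine ((h.comp h1).const_mul ((n : ℝ) ^ 2)).congr' ?_
    filter_upwards [eventually_gt_atTop 0] with m hm
    have hm' : (m : ℝ) ≠ 0 := by exact_mod_cast hm.ne'
    have hn' : (n : ℝ) ≠ 0 := by exact_mod_cast hn.ne'
    simp only [Function.comp_apply, ← pow_mul, Nat.cast_mul]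
    field_simp

/-- All limits exist and satisfy the cube identity. -/
structure QF (Φ : C → ℤ) : Prop where
  ex : ∀ c, ∃ q : ℝ, Lim Φ c q
  cube : ∀ (a b c : C) (qa qb qc qab qac qbc qabc : ℝ), Lim Φ a qa → Lim Φ b qb → Lim Φ c qc →
    Lim Φ (a * b) qab → Lim Φ (a * c) qac → Lim Φ (b * c) qbc → Lim Φ (a * b * c) qabc →
    qabc - qab - qac - qbc + qa + qb + qc = 0

namespace QF

variable (h : QF Φ)

/-- The quadratic form. -/
noncomputable def q (c : C) : ℝ := (h.ex c).choose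

theorem lim (c : C) : Lim Φ c (h.q c) := (h.ex c).choose_spec

theorem q_eq {c : C} {x : ℝ} (hx : Lim Φ c x) : h.q c = x := (h.lim c).unique hx

/-- The pairing. -/
noncomputable def b (x y : C) : ℝ := (h.q (x * y) - h.q x - h.q y) / 2

theorem b_comm (x y : C) : h.b x y = h.b y x := by
  unfold b
  rw [mul_comm]
  ring

theorem b_mul_left (x y z : C) : h.b (x * y) z = h.b x z + h.b y z := by
  have h1 := h.cube x y z _ _ _ _ _ _ _ (h.lim x) (h.lim y) (h.lim z) (h.lim _) (h.lim _) (h.lim _) (h.lim _)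
  unfold b
  linarith

theorem b_one_left (z : C) : h.b 1 z = 0 := by
  have h1 := h.b_mul_left 1 1 z
  rw [mul_one] at h1
  linarith

theorem b_pow_left (x y : C) (n : ℕ) : h.b (x ^ n) y = n * h.b x y := by
  induction n with
  | zero => rw [pow_zero, b_one_left]; simp
  | succ n ih => rw [pow_succ, b_mul_left, ih]; push_cast; ring

theorem b_inv_left (x y : C) : h.b x⁻¹ y = - h.b x y := by
  have h1 := h.b_mul_left x⁻¹ x y
  rw [inv_mul_cancel, b_one_left] at h1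
  linarith

theorem b_mul_right (x y z : C) : h.b x (y * z) = h.b x y + h.b x z := by
  rw [b_comm, b_mul_left, b_comm h y, b_comm h z]

theorem b_pow_right (x y : C) (n : ℕ) : h.b x (y ^ n) = n * h.b x y := by
  rw [b_comm, b_pow_left, b_comm]

theorem q_pow (x : C) (n : ℕ) : h.q (x ^ n) = (n : ℝ) ^ 2 * h.q x := h.q_eq ((h.lim x).pow n)

theorem b_self (x : C) : h.b x x = h.q x := by
  unfold b
  rw [← pow_two, q_pow]
  push_cast
  ring

/-- Infinitely `p`-divisible classes pair to zero. -/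
theorem root_zero {N : ℕ} (hN : 0 < N) (hint : ∀ x y, ∃ z : ℤ, (N : ℝ) * h.b x y = z) {p : ℕ} (hp : 1 < p)
    (d : ℕ → C) (hd : ∀ m, d m = d (m + 1) ^ p) (m : ℕ) (y : C) : h.b (d m) y = 0 := by
  have h1 : ∀ j, d m = d (m + j) ^ p ^ j := by
    intro j
    induction j with
    | zero => simp
    | succ j ih =>
      rw [ih, hd (m + j), ← pow_mul, pow_succ, mul_comm p, add_assoc]
  obtain ⟨z, hz⟩ := hint (d m) y
  have h2 : ∀ j : ℕ, ((p : ℤ) ^ j) ∣ z := by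
    intro j
    obtain ⟨w, hw⟩ := hint (d (m + j)) y
    refine ⟨w, ?_⟩
    have h3 : (z : ℝ) = (p : ℝ) ^ j * w := by
      rw [← hz, ← hw, h1 j, b_pow_left]
      push_cast
      ring
    exact_mod_cast h3
  have h4 : z = 0 := by
    by_contra hne
    have h5 := h2 z.natAbs
    have h6 : (p ^ z.natAbs) ≤ z.natAbs := by
      refine Nat.le_of_dvd (Int.natAbs_pos.2 hne) ?_
      rw [← Int.natCast_dvd]
      exact_mod_cast h5
    exact absurd h6 (not_le.2 (Nat.lt_pow_self hp))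
  rw [h4, Int.cast_zero] at hz
  rcases mul_eq_zero.1 hz with h7 | h7
  · exact absurd h7 (by exact_mod_cast hN.ne')
  · exact h7

end QF

end Group

section Ref

open RefFun K938.RefCl K938.Val

variable {X : Scheme.{u}} [IsIntegral X] [IsLocallyNoetherian X] [Law X] {φ : X.Modules → ℤ}

theorem lim_iff (hφ : ∀ F G : X.Modules, Nonempty (F ≅ G) → φ F = φ G) {F : X.Modules} (hF : RefHull.IsRef1 F)
    {q : ℝ} : Lim (val φ) (cls F hF) q ↔
      Tendsto (fun m : ℕ => (2 : ℝ) * (φ (RefPow.refPow F m) : ℝ) / ((m : ℝ) ^ 2)) atTop (𝓝 q) := by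
  unfold Lim
  simp only [← cls_refPow, val_cls hφ]

theorem lim_mul_iff (hφ : ∀ F G : X.Modules, Nonempty (F ≅ G) → φ F = φ G) {F G : X.Modules}
    (hF : RefHull.IsRef1 F) (hG : RefHull.IsRef1 G)
    {q : ℝ} : Lim (val φ) (cls F hF * cls G hG) q ↔
      Tendsto (fun m : ℕ => (2 : ℝ) * (φ (RefPow.refPow (RefPow.refTensor F G) m) : ℝ) / ((m : ℝ) ^ 2))
        atTop (𝓝 q) := by
  rw [← cls_refTensor]
  exact lim_iff hφ _

theorem qf_of (hφ : ∀ F G : X.Modules, Nonempty (F ≅ G) → φ F = φ G)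
    (h1 : ∀ L : X.Modules, RefHull.IsRef1 L → ∃ q : ℝ,
      Tendsto (fun m : ℕ => (2 : ℝ) * (φ (RefPow.refPow L m) : ℝ) / ((m : ℝ) ^ 2)) atTop (𝓝 q))
    (h2 : ∀ (L₁ L₂ L₃ : X.Modules), RefHull.IsRef1 L₁ → RefHull.IsRef1 L₂ → RefHull.IsRef1 L₃ →
      ∀ (q₁ q₂ q₃ q₁₂ q₁₃ q₂₃ q₁₂₃ : ℝ),
      Tendsto (fun m : ℕ => (2 : ℝ) * (φ (RefPow.refPow L₁ m) : ℝ) / ((m : ℝ) ^ 2)) atTop (𝓝 q₁) →
      Tendsto (fun m : ℕ => (2 : ℝ) * (φ (RefPow.refPow L₂ m) : ℝ) / ((m : ℝ) ^ 2)) atTop (𝓝 q₂) →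
      Tendsto (fun m : ℕ => (2 : ℝ) * (φ (RefPow.refPow L₃ m) : ℝ) / ((m : ℝ) ^ 2)) atTop (𝓝 q₃) →
      Tendsto (fun m : ℕ => (2 : ℝ) * (φ (RefPow.refPow (RefPow.refTensor L₁ L₂) m) : ℝ) / ((m : ℝ) ^ 2)) atTop (𝓝 q₁₂) →
      Tendsto (fun m : ℕ => (2 : ℝ) * (φ (RefPow.refPow (RefPow.refTensor L₁ L₃) m) : ℝ) / ((m : ℝ) ^ 2)) atTop (𝓝 q₁₃) →
      Tendsto (fun m : ℕ => (2 : ℝ) * (φ (RefPow.refPow (RefPow.refTensor L₂ L₃) m) : ℝ) / ((m : ℝ) ^ 2)) atTop (𝓝 q₂₃) →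
      Tendsto (fun m : ℕ => (2 : ℝ) * (φ (RefPow.refPow (RefPow.refTensor (RefPow.refTensor L₁ L₂) L₃) m) : ℝ) /
        ((m : ℝ) ^ 2)) atTop (𝓝 q₁₂₃) →
      q₁₂₃ - q₁₂ - q₁₃ - q₂₃ + q₁ + q₂ + q₃ = 0) : QF (val (X := X) φ) := by
  constructor
  · intro c
    obtain ⟨F, hF, rfl⟩ := exists_eq_cls c
    obtain ⟨q, hq⟩ := h1 F hF
    exact ⟨q, (lim_iff hφ hF).2 hq⟩
  · intro a b c qa qb qc qab qac qbc qabc ha hb hc hab hac hbc habc
    obtain ⟨F, hF, rfl⟩ := exists_eq_cls a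
    obtain ⟨G, hG, rfl⟩ := exists_eq_cls b
    obtain ⟨H, hH, rfl⟩ := exists_eq_cls c
    have habc' := habc
    rw [← cls_refTensor hF hG, lim_mul_iff hφ] at habc'
    exact h2 F G H hF hG hH _ _ _ _ _ _ _ ((lim_iff hφ hF).1 ha) ((lim_iff hφ hG).1 hb) ((lim_iff hφ hH).1 hc)
      ((lim_mul_iff hφ hF hG).1 hab) ((lim_mul_iff hφ hF hH).1 hac) ((lim_mul_iff hφ hG hH).1 hbc) habc'

end Ref

end K476.QForm
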