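import Mathlib

/-!
# Finite generation of the image of a group in a finitely generated group of functions
-/

set_option autoImplicit false

namespace K476.Span

open Finset

variable {G : Type*} [CommGroup G] {Y : Type*}

/-- The homomorphism to functions attached to a function of two variables which is additive in the first. -/
def hom (b : G → Y → ℚ) (hb : ∀ x x' y, b (x * x') y = b x y + b x' y) : Additive G →+ (Y → ℚ) :=
  AddMonoidHom.mk' (fun x y => b x.toMul y) fun _ _ => funext fun y => hb _ _ y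

theorem exists_generators (b : G → Y → ℚ) (hb : ∀ x x' y, b (x * x') y = b x y + b x' y) {t : ℕ}
    (β : Fin t → Y → ℚ) (h : ∀ x, ∃ c : Fin t → ℤ, ∀ y, b x y = ∑ j, (c j : ℚ) * β j y) :
    ∃ (n : ℕ) (A : Fin n → G), ∀ x, ∃ c : Fin n → ℤ, ∀ y, b x y = ∑ j, (c j : ℚ) * b (A j) y := by
  classical
  let φ : Additive G →ₗ[ℤ] (Y → ℚ) := (hom b hb).toIntLinearMap
  have hφ : ∀ x y, φ (Additive.ofMul x) y = b x y := fun _ _ => rfl
  let M : Submodule ℤ (Y → ℚ) := Submodule.span ℤ (Set.range β)
  have hMfg : Module.Finite ℤ M := Module.Finite.span_of_finite ℤ (Set.finite_range β)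
  have hle : LinearMap.range φ ≤ M := by
    rintro _ ⟨x, rfl⟩
    obtain ⟨c, hc⟩ := h x.toMul
    have h1 : φ x = ∑ j, c j • β j := by
      funext y
      rw [Finset.sum_apply]
      refine (hc y).trans (Finset.sum_congr rfl fun j _ => ?_)
      rw [Pi.smul_apply, zsmul_eq_mul]
    rw [h1]
    exact Submodule.sum_mem _ fun j _ => Submodule.smul_mem _ _ (Submodule.subset_span ⟨j, rfl⟩)
  have hnoeth : IsNoetherian ℤ M := inferInstance
  have hfg : (LinearMap.range φ).FG := by
    have h1 : (Submodule.comap M.subtype (LinearMap.range φ)).FG := IsNoetherian.noetherian _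
    have h2 := h1.map M.subtype
    rwa [Submodule.map_comap_subtype, inf_eq_right.2 hle] at h2
  obtain ⟨s, hs⟩ := hfg
  have hmem : ∀ v : s, ∃ x : Additive G, φ x = v := fun v => by
    have h1 : (v : Y → ℚ) ∈ LinearMap.range φ := hs ▸ Submodule.subset_span v.2
    exact h1
  choose A hA using hmem
  let e := s.equivFin.symm
  refine ⟨s.card, fun j => (A (e j)).toMul, fun x => ?_⟩
  have hx : φ (Additive.ofMul x) ∈ Submodule.span ℤ (s : Set (Y → ℚ)) := by
    rw [hs]; exact ⟨_, rfl⟩
  rw [Submodule.mem_span_finset] at hx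
  obtain ⟨c, -, hc⟩ := hx
  refine ⟨fun j => c (e j), fun y => ?_⟩
  have h1 := congrFun hc y
  rw [Finset.sum_apply] at h1
  rw [← hφ x y, ← h1, ← Finset.sum_coe_sort s, ← e.sum_comp]
  refine Finset.sum_congr rfl fun j _ => ?_
  have h2 : (e j : Y → ℚ) y = b (A (e j)).toMul y := by rw [← hA (e j)]; rfl
  rw [Pi.smul_apply, zsmul_eq_mul, h2]

end K476.Span
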